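import Cfsg.Agent.Lib.MultU43.Code
import Cfsg.Agent.Lib.LinearGroups.UnitaryOrder
import Cfsg.Prelude.Def_Classical

/-!
`PSU₄(3)` by packed codes: an injective key, and the elements given by words in nine root elements.
-/

set_option autoImplicit false
set_option maxRecDepth 20000

namespace Cfsg.Agent.MultU43

open Matrix

universe u

/-- The decoded generator. -/
def gK (r : ℕ) : Mk := fun i j =>
  ⟨(((rootsC.getD r idC).getD i.val 0 / 64 ^ j.val % 64 : ℕ) : ZMod 3),
    (((rootsC.getD r idC).getD i.val 0 / 64 ^ (4 + j.val) % 64 : ℕ) : ZMod 3)⟩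

theorem gK_code : ∀ r : Fin 9, codeK (gK r.val) = rootsC.getD r.val idC := by decide +kernel

theorem gK_unitary : ∀ (r : Fin 9) (i j : Fin 4),
    K9.add (K9.add (K9.mul (gK r.val 0 i) (gK r.val 0 j).conj) (K9.mul (gK r.val 1 i) (gK r.val 1 j).conj))
      (K9.add (K9.mul (gK r.val 2 i) (gK r.val 2 j).conj) (K9.mul (gK r.val 3 i) (gK r.val 3 j).conj)) =
      if i = j then K9.one else K9.zero := by
  decide +kernel

theorem gK_cube : ∀ r : Fin 9, codeK (kmul (gK r.val) (kmul (gK r.val) (gK r.val))) = idC := by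
  decide +kernel

/-- An identification of the model with the field. -/
structure Iso (F : Type u) [Field F] where
  /-- the bijection -/
  φ : K9 ≃ F
  add : ∀ x y, φ (K9.add x y) = φ x + φ y
  mul : ∀ x y, φ (K9.mul x y) = φ x * φ y
  zero : φ K9.zero = 0
  one : φ K9.one = 1
  cube : ∀ x, φ (K9.conj x) = φ x ^ 3

variable {F : Type u} [Field F] [Fintype F]

theorem k9_sub : ∀ a b : K9, K9.add a ⟨-b.re, -b.im⟩ = K9.zero → a = b := by decide

theorem exists_iso (hF : Fintype.card F = 9) : Nonempty (Iso F) := by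
  haveI : Fact (Nat.Prime 3) := ⟨Nat.prime_three⟩
  haveI : CharP F 3 := charP_of_card_eq_prime_pow (f := 2) (by simpa using hF)
  let c : ZMod 3 →+* F := ZMod.castHom dvd_rfl F
  obtain ⟨j, hj⟩ := FiniteField.isSquare_neg_one_iff.2 (show Fintype.card F % 4 ≠ 3 by rw [hF]; norm_num)
  let f : K9 → F := fun x => c x.re + c x.im * j
  have hadd : ∀ x y, f (K9.add x y) = f x + f y := fun x y => by
    simp only [f, K9.add, map_add]; ring
  have hmul : ∀ x y, f (K9.mul x y) = f x * f y := fun x y => by
    simp only [f, K9.mul, map_add, map_sub, map_mul]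
    linear_combination (c x.im * c y.im) * hj
  have hz : f K9.zero = 0 := by simp [f, K9.zero]
  have hone : f K9.one = 1 := by simp [f, K9.one]
  have hinv : ∀ x : K9, x = K9.zero ∨ ∃ y, K9.mul x y = K9.one := by decide
  have h0 : ∀ x, f x = 0 → x = K9.zero := by
    intro x hx
    rcases hinv x with h | ⟨y, hy⟩
    · exact h
    · exfalso
      have := hmul x y
      rw [hy, hone, hx, zero_mul] at this
      exact one_ne_zero this
  have hinj : Function.Injective f := by
    intro x y h
    refine k9_sub x y (h0 _ ?_)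
    rw [hadd, h]
    simp only [f, map_neg]
    ring
  let φ := Equiv.ofBijective f ((Fintype.bijective_iff_injective_and_card f).2 ⟨hinj, by rw [hF]; rfl⟩)
  refine ⟨⟨φ, hadd, hmul, hz, hone, fun x => ?_⟩⟩
  have hc : ∀ x : K9, K9.mul x (K9.mul x x) = K9.conj x := by decide
  show f (K9.conj x) = f x ^ 3
  rw [← hc x, hmul, hmul]
  ring

variable (ι : Iso F)

/-- The matrix of a matrix over the model. -/
def toF (A : Mk) : Matrix (Fin 4) (Fin 4) F := Matrix.of fun i j => ι.φ (A i j)

/-- The coordinates of a matrix. -/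
def ofF (M : Matrix (Fin 4) (Fin 4) F) : Mk := fun i j => ι.φ.symm (M i j)

omit [Fintype F] in
theorem toF_kmul (A B : Mk) : toF ι (kmul A B) = toF ι A * toF ι B := by
  ext i j
  simp [toF, kmul, Matrix.mul_apply, Fin.sum_univ_four, ι.add, ι.mul]
  ring

omit [Fintype F] in
theorem toF_kone : toF ι kone = 1 := by
  ext i j
  simp only [toF, kone, Matrix.of_apply]
  split_ifs with h
  · rw [ι.one, h, Matrix.one_apply_eq]
  · rw [ι.zero, Matrix.one_apply_ne h]

omit [Fintype F] in
theorem ofF_toF (A : Mk) : ofF ι (toF ι A) = A := by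
  funext i j
  simp [ofF, toF]

omit [Fintype F] in
theorem toF_ofF (M : Matrix (Fin 4) (Fin 4) F) : toF ι (ofF ι M) = M := by
  ext i j
  simp [ofF, toF]

/-- The code of a matrix. -/
def code (M : Matrix (Fin 4) (Fin 4) F) : List ℕ := codeK (ofF ι M)

omit [Fintype F] in
theorem code_mul (M N : Matrix (Fin 4) (Fin 4) F) : code ι (M * N) = mmul (code ι M) (code ι N) := by
  rw [code, code, code, mmul_codeK]
  refine congrArg codeK ?_
  conv_lhs => rw [← toF_ofF ι M, ← toF_ofF ι N, ← toF_kmul, ofF_toF]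

omit [Fintype F] in
theorem code_one : code ι (1 : Matrix (Fin 4) (Fin 4) F) = idC := by
  rw [code, ← toF_kone ι, ofF_toF, codeK_one]

omit [Fintype F] in
theorem code_injective : Function.Injective (code ι) := fun M N h => by
  rw [← toF_ofF ι M, ← toF_ofF ι N, codeK_injective h]

/-- The square root of `-1`. -/
def im1 : F := ι.φ K9.I

omit [Fintype F] in
theorem code_smul (M : Matrix (Fin 4) (Fin 4) F) : code ι (im1 ι • M) = sI (code ι M) := by
  rw [code, code, sI_codeK]
  refine congrArg codeK (funext fun i => funext fun j => ?_)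
  apply ι.φ.injective
  simp [ofF, kI, im1, ι.mul]

omit [Fintype F] in
theorem im1_sq : im1 ι ^ 2 = -1 := by
  have e : K9.add (K9.mul K9.I K9.I) K9.one = K9.zero := by decide
  have := congrArg ι.φ e
  rw [ι.add, ι.mul, ι.one, ι.zero] at this
  rw [im1, sq]
  exact eq_neg_of_add_eq_zero_left this

/-- The group. -/
abbrev S (F : Type u) [Field F] : Type u := ↥(Cfsg.SU 4 F 3)

/-- The simple group. -/
abbrev P (F : Type u) [Field F] : Type u := Cfsg.PSU 4 F 3

/-- The matrix of an element. -/
abbrev mat (x : S F) : Matrix (Fin 4) (Fin 4) F := x.1.1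

omit [Fintype F] in
theorem mat_injective : Function.Injective (mat (F := F)) := fun _ _ h => Subtype.ext (Subtype.ext h)

omit [Fintype F] in
theorem mat_mul (x y : S F) : mat (x * y) = mat x * mat y := rfl

omit [Fintype F] in
theorem mem_SU {M : Matrix (Fin 4) (Fin 4) F} (hF3 : CharP F 3) (hd : M.det = 1)
    (hu : M.transpose * M.map (fun x => x ^ 3) = 1) :
    (⟨M, hd⟩ : Matrix.SpecialLinearGroup (Fin 4) F) ∈ Cfsg.SU 4 F 3 := by
  intro u v
  haveI := hF3
  haveI : ExpChar F 3 := ExpChar.prime Nat.prime_three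
  have e : ∀ a b : Fin 4 → F, Cfsg.hermForm 4 F 3 a b = a ⬝ᵥ fun i => b i ^ 3 := fun a b => rfl
  show Cfsg.hermForm 4 F 3 (M *ᵥ u) (M *ᵥ v) = _
  have hv : (fun i => (M *ᵥ v) i ^ 3) = M.map (fun x => x ^ 3) *ᵥ fun i => v i ^ 3 :=
    funext fun i => by
      simp only [Matrix.mulVec, dotProduct, Matrix.map_apply]
      rw [sum_pow_char]
      simp only [mul_pow]
  rw [e, e, hv, Matrix.dotProduct_mulVec, ← Matrix.mulVec_transpose, Matrix.mulVec_mulVec]
  have h2 : (M.map fun x => x ^ 3).transpose * M = 1 := by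
    have := congrArg Matrix.transpose hu
    rwa [Matrix.transpose_mul, Matrix.transpose_transpose, Matrix.transpose_one] at this
  rw [h2, Matrix.one_mulVec]

theorem charP_three (hF : Fintype.card F = 9) : CharP F 3 :=
  haveI : Fact (Nat.Prime 3) := ⟨Nat.prime_three⟩
  charP_of_card_eq_prime_pow (f := 2) (by simpa using hF)

variable (hF : Fintype.card F = 9)

include hF in
theorem exists_gen (r : ℕ) : ∃ x : S F, code ι (mat x) = rootsC.getD r idC := by
  by_cases hr : r < 9
  · have hc := gK_code ⟨r, hr⟩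
    have hM : code ι (toF ι (gK r)) = rootsC.getD r idC := by rw [code, ofF_toF]; exact hc
    have hcube : toF ι (gK r) * (toF ι (gK r) * toF ι (gK r)) = 1 := by
      refine code_injective ι ?_
      rw [code_one, ← toF_kmul, ← toF_kmul, code, ofF_toF]
      exact gK_cube ⟨r, hr⟩
    haveI := charP_three hF
    haveI : ExpChar F 3 := ExpChar.prime Nat.prime_three
    have hd : (toF ι (gK r)).det = 1 := by
      have h := congrArg Matrix.det hcube
      rw [Matrix.det_mul, Matrix.det_mul, Matrix.det_one] at h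
      have h3 : ((toF ι (gK r)).det - 1) ^ 3 = 0 := by
        rw [sub_pow_char, one_pow]
        linear_combination h
      exact sub_eq_zero.1 (pow_eq_zero_iff (by norm_num) |>.1 h3)
    refine ⟨⟨⟨_, hd⟩, mem_SU (charP_three hF) hd ?_⟩, hM⟩
    ext i j
    have h := congrArg ι.φ (gK_unitary ⟨r, hr⟩ i j)
    simp only [ι.add, ι.mul, ι.cube] at h
    rw [Matrix.mul_apply, Fin.sum_univ_four, Matrix.one_apply]
    simp only [Matrix.transpose_apply, Matrix.map_apply, toF, Matrix.of_apply]
    rw [show (if i = j then (1 : F) else 0) = ι.φ (if i = j then K9.one else K9.zero) by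
      split_ifs <;> simp [ι.one, ι.zero], ← h]
    ring
  · refine ⟨1, ?_⟩
    rw [List.getD_eq_default _ _ (by simp [rootsC]; omega)]
    exact code_one ι

/-- A generator. -/
noncomputable def gS (r : ℕ) : S F := (exists_gen ι hF r).choose

/-- The element of a word, in the special unitary group. -/
noncomputable def wS : List ℕ → S F
  | [] => 1
  | r :: w => gS ι hF r * wS w

theorem wS_code : ∀ w : List ℕ, code ι (mat (wS ι hF w)) = wC w
  | [] => code_one ι
  | r :: w => by
    rw [wS, mat_mul, code_mul, wS_code w, show code ι (mat (gS ι hF r)) = _ from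
      (exists_gen ι hF r).choose_spec, wC]

theorem wS_append : ∀ v w : List ℕ, wS ι hF (v ++ w) = wS ι hF v * wS ι hF w
  | [], w => (one_mul _).symm
  | r :: v, w => by rw [List.cons_append, wS, wS, wS_append v w, mul_assoc]

/-- The element of a word, in the simple group. -/
noncomputable def wP (w : List ℕ) : P F := QuotientGroup.mk (wS ι hF w)

theorem wP_nil : wP ι hF [] = 1 := rfl

theorem wP_append (v w : List ℕ) : wP ι hF (v ++ w) = wP ι hF v * wP ι hF w := by
  rw [wP, wS_append]
  rfl

include ι hF in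
theorem exists_scalar : ∃ z : S F, mat z = im1 ι • (1 : Matrix (Fin 4) (Fin 4) F) := by
  have hd : (im1 ι • (1 : Matrix (Fin 4) (Fin 4) F)).det = 1 := by
    rw [Matrix.det_smul, Matrix.det_one, Fintype.card_fin, mul_one, show (4 : ℕ) = 2 * 2 from rfl,
      pow_mul, im1_sq]
    ring
  refine ⟨⟨⟨_, hd⟩, mem_SU (charP_three hF) hd ?_⟩, rfl⟩
  ext i j
  simp only [Matrix.mul_apply, Matrix.transpose_apply, Matrix.map_apply, Matrix.smul_apply, smul_eq_mul]
  rw [Finset.sum_eq_single i]
  · rcases eq_or_ne i j with rfl | h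
    · rw [Matrix.one_apply_eq]
      linear_combination (im1 ι ^ 2 - 1) * im1_sq ι
    · rw [Matrix.one_apply_ne h]; simp
  · intro k _ hk
    rw [Matrix.one_apply_ne hk]
    simp
  · simp

/-- The scalar. -/
noncomputable def zS : S F := (exists_scalar ι hF).choose

theorem mat_zS : mat (zS ι hF) = im1 ι • (1 : Matrix (Fin 4) (Fin 4) F) :=
  (exists_scalar ι hF).choose_spec

theorem zS_central : zS ι hF ∈ Subgroup.center (S F) := by
  rw [Subgroup.mem_center_iff]
  intro x
  apply mat_injective
  rw [mat_mul, mat_mul, mat_zS, Matrix.mul_smul, mul_one, Matrix.smul_mul, one_mul]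

theorem code_zS_mul (x : S F) : code ι (mat (zS ι hF * x)) = sI (code ι (mat x)) := by
  rw [mat_mul, mat_zS, Matrix.smul_mul, one_mul, code_smul]

theorem zS_four : zS ι hF ^ 4 = 1 := by
  apply mat_injective
  refine code_injective ι ?_
  rw [show zS ι hF ^ 4 = zS ι hF * (zS ι hF * (zS ι hF * (zS ι hF * 1))) by
    simp only [pow_succ', pow_zero], code_zS_mul, code_zS_mul, code_zS_mul, code_zS_mul]
  exact sI_four _

theorem orderOf_zS : orderOf (zS ι hF) = 4 := by
  haveI : Fact (Nat.Prime 2) := ⟨Nat.prime_two⟩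
  refine orderOf_eq_prime_pow (p := 2) (n := 1) ?_ (by exact zS_four ι hF)
  intro h
  have h2 := congrArg (fun x => code ι (mat x)) h
  rw [show zS ι hF ^ (2 ^ 1) = zS ι hF * (zS ι hF * 1) by simp [pow_two], code_zS_mul, code_zS_mul,
    show mat (1 : S F) = 1 from rfl, code_one] at h2
  revert h2
  decide +kernel

theorem center_eq : Subgroup.center (S F) = Subgroup.zpowers (zS ι hF) := by
  haveI : Finite (Subgroup.center (S F)) := inferInstance
  refine (Subgroup.eq_of_le_of_card_ge (Subgroup.zpowers_le.2 (zS_central ι hF)) ?_).symm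
  rw [Nat.card_zpowers, orderOf_zS, UnitaryOrder.card_center_SU (q := 3) (by rw [hF]; norm_num) 4 (by norm_num)]
  decide

theorem mkey_sI (A : Mk) : mkey (sI (codeK A)) = mkey (codeK A) := by
  simp only [mkey, sI_four]
  omega

theorem mkey_zS (x : S F) : ∀ k : ℕ, mkey (code ι (mat (zS ι hF ^ k * x))) = mkey (code ι (mat x))
  | 0 => by rw [pow_zero, one_mul]
  | k + 1 => by rw [pow_succ', mul_assoc, code_zS_mul, code, mkey_sI]; exact mkey_zS x k

/-- The key of an element of the simple group. -/
noncomputable def pkey : P F → ℕ :=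
  Quotient.lift (fun x : S F => mkey (code ι (mat x))) fun x y h => by
    have h' : x⁻¹ * y ∈ Subgroup.center (S F) := QuotientGroup.leftRel_apply.1 h
    have hz := h'
    rw [center_eq ι hF] at hz
    haveI : Finite (S F) := inferInstance
    obtain ⟨k, hk⟩ := mem_powers_iff_mem_zpowers.2 hz
    have hy : y = zS ι hF ^ k * x := by
      replace hk : zS ι hF ^ k = x⁻¹ * y := hk
      rw [hk, ← Subgroup.mem_center_iff.1 h' x, mul_inv_cancel_left]
    rw [hy, mkey_zS]

theorem pkey_mk (x : S F) : pkey ι hF (QuotientGroup.mk x) = mkey (code ι (mat x)) := rfl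

theorem pkey_injective : Function.Injective (pkey ι hF) := by
  intro X Y h
  obtain ⟨x, rfl⟩ := QuotientGroup.mk_surjective X
  obtain ⟨y, rfl⟩ := QuotientGroup.mk_surjective Y
  rw [pkey_mk, pkey_mk] at h
  have hk : ∀ (A : S F) (k : ℕ), key (code ι (mat (zS ι hF ^ k * A))) =
      key ((sI^[k]) (code ι (mat A))) := by
    intro A k
    induction k with
    | zero => rw [pow_zero, one_mul]; rfl
    | succ k ih =>
      rw [Function.iterate_succ_apply', pow_succ', mul_assoc, code_zS_mul]
      have := congrArg unk ih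
      rw [code, unk_key] at this
      have hs : ∀ (j : ℕ) (B : Mk), ∃ B', (sI^[j]) (codeK B) = codeK B' := by
        intro j
        induction j with
        | zero => exact fun B => ⟨B, rfl⟩
        | succ j ihj =>
          intro B
          obtain ⟨B', hB⟩ := ihj B
          exact ⟨kI B', by rw [Function.iterate_succ_apply', hB, sI_codeK]⟩
      obtain ⟨B', hB⟩ := hs k (ofF ι (mat A))
      rw [code] at this ⊢
      rw [hB, unk_key] at this
      rw [code, hB, this]
  have hm : ∀ A : S F, ∃ k, mkey (code ι (mat A)) = key (code ι (mat (zS ι hF ^ k * A))) := by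
    intro A
    unfold mkey
    rcases min_choice (min (key (code ι (mat A))) (key (sI (code ι (mat A)))))
      (min (key (sI (sI (code ι (mat A))))) (key (sI (sI (sI (code ι (mat A))))))) with h1 | h1 <;> rw [h1]
    · rcases min_choice (key (code ι (mat A))) (key (sI (code ι (mat A)))) with h2 | h2 <;> rw [h2]
      · exact ⟨0, (hk A 0).symm⟩
      · exact ⟨1, (hk A 1).symm⟩
    · rcases min_choice (key (sI (sI (code ι (mat A))))) (key (sI (sI (sI (code ι (mat A)))))) with h2 | h2 <;> rw [h2]
      · exact ⟨2, (hk A 2).symm⟩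
      · exact ⟨3, (hk A 3).symm⟩
  obtain ⟨a, ha⟩ := hm x
  obtain ⟨b, hb⟩ := hm y
  rw [ha, hb] at h
  have h1 := congrArg unk h
  rw [code, code, unk_key, unk_key] at h1
  have e : zS ι hF ^ a * x = zS ι hF ^ b * y :=
    mat_injective (code_injective ι h1)
  have hz : ∀ k, (QuotientGroup.mk (zS ι hF ^ k) : P F) = 1 := fun k =>
    (QuotientGroup.eq_one_iff _).2 (pow_mem (zS_central ι hF) k)
  have := congrArg (QuotientGroup.mk : S F → P F) e
  rwa [QuotientGroup.mk_mul, QuotientGroup.mk_mul, hz, hz, one_mul, one_mul] at this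

theorem pkey_wP (w : List ℕ) : pkey ι hF (wP ι hF w) = mkey (wC w) := by
  rw [wP, pkey_mk, wS_code]

theorem pkey_one : pkey ι hF 1 = mkey idC := by rw [← wP_nil ι hF, pkey_wP]; rfl

/-- The key of a product from the keys of the factors. -/
theorem pkey_mul (X Y : P F) {A B : List ℕ} (hA : ∃ x : S F, QuotientGroup.mk x = X ∧ code ι (mat x) = A)
    (hB : ∃ y : S F, QuotientGroup.mk y = Y ∧ code ι (mat y) = B) :
    pkey ι hF (X * Y) = mkey (mmul A B) := by
  obtain ⟨x, rfl, rfl⟩ := hA
  obtain ⟨y, rfl, rfl⟩ := hB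
  rw [← QuotientGroup.mk_mul, pkey_mk, mat_mul, code_mul]

theorem rep_wP (w : List ℕ) : ∃ x : S F, QuotientGroup.mk x = wP ι hF w ∧ code ι (mat x) = wC w :=
  ⟨wS ι hF w, rfl, wS_code ι hF w⟩

/-- A lift with the code given by the key. -/
theorem rep_pkey (X : P F) : ∃ x : S F, QuotientGroup.mk x = X ∧ code ι (mat x) = unk (pkey ι hF X) := by
  obtain ⟨x, rfl⟩ := QuotientGroup.mk_surjective X
  have h0 : ∀ k, (QuotientGroup.mk (zS ι hF ^ k * x) : P F) = QuotientGroup.mk x := fun k => by
    rw [QuotientGroup.mk_mul, (QuotientGroup.eq_one_iff _).2 (pow_mem (zS_central ι hF) k), one_mul]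
  rw [pkey_mk]
  unfold mkey
  rcases min_choice (min (key (code ι (mat x))) (key (sI (code ι (mat x)))))
      (min (key (sI (sI (code ι (mat x))))) (key (sI (sI (sI (code ι (mat x))))))) with h1 | h1 <;> rw [h1]
  · rcases min_choice (key (code ι (mat x))) (key (sI (code ι (mat x)))) with h2 | h2 <;> rw [h2]
    · exact ⟨x, rfl, (unk_key _).symm⟩
    · refine ⟨zS ι hF ^ 1 * x, h0 1, ?_⟩
      rw [pow_one, code_zS_mul]
      show _ = unk (key (sI (codeK _)))
      rw [sI_codeK, unk_key, ← sI_codeK]
      rfl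
  · rcases min_choice (key (sI (sI (code ι (mat x))))) (key (sI (sI (sI (code ι (mat x)))))) with h2 | h2 <;> rw [h2]
    · refine ⟨zS ι hF ^ 2 * x, h0 2, ?_⟩
      rw [pow_two, mul_assoc, code_zS_mul, code_zS_mul]
      show _ = unk (key (sI (sI (codeK _))))
      rw [sI_codeK, sI_codeK, unk_key, ← sI_codeK, ← sI_codeK]
      rfl
    · refine ⟨zS ι hF ^ 3 * x, h0 3, ?_⟩
      rw [show zS ι hF ^ 3 = zS ι hF * (zS ι hF * zS ι hF) by simp [pow_succ', pow_zero], mul_assoc,
        code_zS_mul, mul_assoc, code_zS_mul, code_zS_mul]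
      show _ = unk (key (sI (sI (sI (codeK _)))))
      rw [sI_codeK, sI_codeK, sI_codeK, unk_key, ← sI_codeK, ← sI_codeK, ← sI_codeK]
      rfl

include hF in
theorem card_P : Nat.card (P F) = 3265920 := by
  have h := UnitaryOrder.card_PSU (q := 3) (F := F) (by rw [hF]; norm_num) 4 (by norm_num)
  rw [UnitaryOrder.card_GU (by rw [hF]; norm_num)] at h
  norm_num [Finset.prod_range_succ, Nat.even_iff] at h
  unfold P
  omega

include hF in
theorem finite_P : Finite (P F) := Nat.finite_of_card_ne_zero (by rw [card_P hF]; norm_num)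

end Cfsg.Agent.MultU43
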