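import Cfsg.Agent.Lib.MultU43.Check
import Cfsg.Agent.Lib.StemCert.Bound

/-!
The bound of a certificate with two cyclic parts.
-/

set_option autoImplicit false

namespace Cfsg.Agent.MultU43

open Cfsg.Agent.StemCert
open scoped commutatorElement

universe u

/-- A transfer puts the kernel of a stem extension into every subgroup complementary to it modulo
`⟨c⟩` over a subgroup of index prime to the exponent. -/
theorem mem_of_transfer {E G : Type*} [Group E] [Finite E] [Group G] (π : E →* G)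
    (hπ : Function.Surjective π) (hc : π.ker ≤ Subgroup.center E) {n : ℕ}
    (hexp : ∀ z ∈ π.ker, z ^ n = 1) (hd : π.ker ≤ commutator E) (T : Subgroup E) (Z : Subgroup E)
    (hT : ∀ x ∈ T, π x = 1 → x ∈ Z) (hidx : Nat.Coprime n (T.map π).index) :
    π.ker ≤ Z := by
  classical
  have hcen : ∀ k : E, k ∈ π.ker → ∀ x : E, x * k = k * x := fun k hk x =>
    Subgroup.mem_center_iff.1 (hc hk) x
  haveI hkn : π.ker.Normal := π.normal_ker
  let W : Subgroup E := T ⊔ π.ker
  have hWidx : W.index = (T.map π).index := by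
    rw [← Subgroup.index_map_eq W hπ le_sup_right, Subgroup.map_sup,
      (Subgroup.map_eq_bot_iff π.ker).2 le_rfl, sup_bot_eq]
  have hWcomm : ⁅W, W⁆ ≤ T := by
    rw [Subgroup.commutator_le]
    intro x hx y hy
    obtain ⟨t, ht, v, hv, rfl⟩ := Subgroup.mem_sup_of_normal_right.1 hx
    obtain ⟨t', ht', v', hv', rfl⟩ := Subgroup.mem_sup_of_normal_right.1 hy
    have hv1 := hcen v hv
    have hv2 := hcen v' hv'
    have e : ⁅t * v, t' * v'⁆ = ⁅t, t'⁆ := by
      simp only [commutatorElement_def, mul_inv_rev]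
      calc t * v * (t' * v') * (v⁻¹ * t⁻¹) * (v'⁻¹ * t'⁻¹)
          = t * v * t' * (v' * (v⁻¹ * t⁻¹)) * v'⁻¹ * t'⁻¹ := by group
        _ = t * v * t' * ((v⁻¹ * t⁻¹) * v') * v'⁻¹ * t'⁻¹ := by rw [← hv2]
        _ = t * (v * t') * v⁻¹ * t⁻¹ * t'⁻¹ := by group
        _ = t * (t' * v) * v⁻¹ * t⁻¹ * t'⁻¹ := by rw [← hv1]
        _ = t * t' * t⁻¹ * t'⁻¹ := by group
    rw [e, commutatorElement_def]
    exact mul_mem (mul_mem (mul_mem ht ht') (inv_mem ht)) (inv_mem ht')
  intro v hv
  haveI : W.FiniteIndex := Subgroup.finiteIndex_of_finite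
  let φ : W →* Abelianization W := Abelianization.of
  have h0 : MonoidHom.transfer φ v = 1 := Abelianization.commutator_subset_ker _ (hd hv)
  have key : ∀ (k : ℕ) (g₀ : E), g₀⁻¹ * v ^ k * g₀ ∈ W → g₀⁻¹ * v ^ k * g₀ = v ^ k := by
    intro k g₀ _
    rw [hcen _ (pow_mem hv k) g₀⁻¹, inv_mul_cancel_right]
  rw [MonoidHom.transfer_eq_pow φ v key, ← MonoidHom.mem_ker, Abelianization.ker_of] at h0
  have h3 := Subgroup.mem_map_of_mem W.subtype h0
  rw [Subgroup.map_subtype_commutator] at h3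
  have h1 : v ^ W.index ∈ Z :=
    hT _ (hWcomm h3) (MonoidHom.mem_ker.1 (pow_mem hv _))
  rw [hWidx] at h1
  have hgcd := Nat.gcd_eq_gcd_ab n (T.map π).index
  rw [hidx] at hgcd
  have hv' : v = (v ^ (T.map π).index) ^ Nat.gcdB n (T.map π).index := by
    have h2 : v ^ (n : ℤ) = 1 := by rw [zpow_natCast]; exact hexp v hv
    conv_lhs => rw [← zpow_one v, show (1 : ℤ) = ((1 : ℕ) : ℤ) from rfl, hgcd, zpow_add, zpow_mul,
      h2, one_zpow, one_mul, zpow_mul, zpow_natCast]
  rw [hv']
  exact zpow_mem h1 _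

variable {Γ G : Type u} [Group Γ] [Finite Γ] [Group G]

open Cert in
/-- The bound of a certificate. -/
theorem ker_le_of_cert2 (C : Cert) (c2 : ℕ) (eps2 : List ℕ) (hshape : C.shapeOk = true)
    (htab : C.tabOk = true) (hlin : linOk2 C c2 eps2 = true) (g : ℕ → G) (γ : ℕ → G)
    (hrel : ∀ r < C.rels.length, ((C.rel r).1.map g).prod = ((C.rel r).2.map g).prod)
    (hslot : ∀ s < C.slots.length, γ (C.slot s).1 * C.sP g (C.slot s).2.1 =
      C.sP g (C.slot s).2.2 * γ (C.slot s).1)
    (hinj : ∀ e < C.N, ∀ f < C.N, C.sP g e = C.sP g f → e = f)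
    (hidx : ∀ H : Subgroup G, Nat.card H = C.N → Nat.Coprime C.n H.index)
    (π : Γ →* G) (hπ : Function.Surjective π) (hc : π.ker ≤ Subgroup.center Γ)
    (hd : π.ker ≤ commutator Γ) (hexp : ∀ z ∈ π.ker, z ^ C.n = 1) :
    ∃ cv cw : Γ, π.ker ≤ Subgroup.closure ({cv, cw} : Set Γ) ∧ cv ∈ π.ker ∧ cw ∈ π.ker ∧
      (∀ k, C.boundOk k = true → cv ^ k = 1) ∧
      (∀ k cc, Nat.beq (fscale C.n k C.M c2) (C.combo cc) = true → cw ^ k = 1) := by
  classical
  obtain ⟨hn, hN, hrels, hslots, -, -⟩ := shape hshape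
  choose L hL using hπ
  let A : ℕ → Γ := fun i => L (g i)
  let Gc : ℕ → Γ := fun i => L (γ i)
  have hπA : ∀ w : List ℕ, π ((w.map A).prod) = (w.map g).prod := fun w => by
    rw [map_list_prod, List.map_map]
    exact congrArg List.prod (List.map_congr_left fun i _ => hL (g i))
  let ν : ℕ → Γ := fun j =>
    if j < C.rels.length then ((C.rel j).1.map A).prod * (((C.rel j).2.map A).prod)⁻¹
    else if j - C.rels.length < C.slots.length then
      Gc (C.slot (j - C.rels.length)).1 * C.sP A (C.slot (j - C.rels.length)).2.1 *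
        (C.sP A (C.slot (j - C.rels.length)).2.2 * Gc (C.slot (j - C.rels.length)).1)⁻¹
    else 1
  have hker : ∀ j, ν j ∈ π.ker := by
    intro j
    simp only [ν]
    split_ifs with h1 h2
    · rw [MonoidHom.mem_ker, map_mul, map_inv, hπA, hπA, hrel j h1, mul_inv_cancel]
    · rw [MonoidHom.mem_ker]
      simp only [map_mul, map_inv, sP, hπA, Gc, hL]
      rw [mul_inv_eq_one]
      exact hslot _ h2
    · exact one_mem _
  have hν : Unk C ν := ⟨fun j => hc (hker j), fun j => hexp _ (hker j)⟩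
  have hr : RelHyp C ν A := by
    intro r hr'
    simp only [ν, if_pos hr', inv_mul_cancel_right]
  have hT := tab_sound hshape htab hν hr
  have hG : ∀ s < C.slots.length, Gc (C.slot s).1 * C.sP A (C.slot s).2.1 =
      ν (C.rels.length + s) * C.sP A (C.slot s).2.2 * Gc (C.slot s).1 := by
    intro s hs
    simp only [ν, if_neg (show ¬ C.rels.length + s < C.rels.length by omega), Nat.add_sub_cancel_left,
      if_pos hs]
    group
  simp only [linOk2, Bool.and_eq_true, beq_iff_eq, List.all_eq_true, List.mem_range] at hlin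
  obtain ⟨hder, hres⟩ := hlin
  have hrow : ∀ r, ev C.M ν (C.rows.getD r 0) = 1 := by
    intro r
    by_cases hr' : r < C.rows.length
    · have hm : C.rows.getD r 0 ∈ C.derived := by
        rw [hder, List.getD_eq_getElem _ _ hr']; exact List.getElem_mem _
      simp only [derived, List.mem_append, List.mem_map] at hm
      rcases hm with ⟨x, hx, e⟩ | ⟨x, hx, e⟩ <;> rw [← e]
      · exact eqS_sound hshape hν hr hT hx
      · exact eqC_sound hshape hν hT hG hx
    · rw [List.getD_eq_default _ _ (not_lt.1 hr'), ev_zero]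
  have hcombo : ∀ l, ev C.M ν (C.combo l) = 1 := by
    intro l
    induction l with
    | nil => exact ev_zero _ _
    | cons q l ih =>
      obtain ⟨r, k⟩ := q
      rw [combo, ev_add hn hν, ev_fscale hn.1 hn.2 _ _ _ hν.cen hν.exp, hrow, one_pow, one_mul, ih]
  set cv : Γ := ev C.M ν C.c
  have hcvc : cv ∈ Subgroup.center Γ := ev_mem_center _ _ hν.cen _
  have hcvk : cv ∈ π.ker := ev_mem π.ker _ _ hker _
  let B : ℕ → Γ := fun k => ev C.M ν (C.D.getD k 0) * A k
  have hB : ∀ w : List ℕ, (w.map B).prod = ev C.M ν (C.dsum w) * (w.map A).prod := by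
    intro w
    induction w with
    | nil =>
      show (1 : Γ) = ev C.M ν 0 * 1
      rw [ev_zero, mul_one]
    | cons k w ih =>
      show B k * (w.map B).prod = ev C.M ν (fadd C.n C.M (C.D.getD k 0) (C.dsum w)) *
        (A k * (w.map A).prod)
      rw [ih, ev_fadd hn.1 hn.2 _ _ hν.cen hν.exp]
      show ev C.M ν (C.D.getD k 0) * A k * (ev C.M ν (C.dsum w) * (w.map A).prod) = _
      rw [mul_assoc (ev C.M ν (C.D.getD k 0)), ← mul_assoc (A k), comm_ev hν]
      simp only [mul_assoc]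
  set cw : Γ := ev C.M ν c2
  have hcwc : cw ∈ Subgroup.center Γ := ev_mem_center _ _ hν.cen _
  have hcwk : cw ∈ π.ker := ev_mem π.ker _ _ hker _
  let ν' : ℕ → Γ := fun j => if j < C.rels.length then cv ^ C.eps.getD j 0 * cw ^ eps2.getD j 0 else 1
  have hν' : Unk C ν' := by
    refine ⟨fun j => ?_, fun j => ?_⟩ <;> simp only [ν'] <;> split_ifs
    · exact mul_mem (pow_mem hcvc _) (pow_mem hcwc _)
    · exact one_mem _
    · exact hexp _ (mul_mem (pow_mem hcvk _) (pow_mem hcwk _))
    · exact one_pow _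
  have hr' : RelHyp C ν' B := by
    intro r hr''
    have h1 : ev C.M ν (resid2 C c2 eps2 r) = 1 := by
      rw [Nat.eq_of_beq_eq_true (hres r hr'')]; exact hcombo _
    rw [resid2, resid, ev_sub hn hν, ev_sub hn hν, ev_sub hn hν, ev_add hn hν,
      ev_fvar C.M ν r (lt_of_lt_of_le hr'' (Nat.le_add_right _ _)),
      ev_fscale hn.1 hn.2 _ _ _ hν.cen hν.exp, ev_fscale hn.1 hn.2 _ _ _ hν.cen hν.exp] at h1
    rw [hB, hB, hr r hr'']
    simp only [ν', if_pos hr'']
    rw [mul_inv_eq_one] at h1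
    have h1' : ν r * ev C.M ν (C.dsum (C.rel r).1) * (ev C.M ν (C.dsum (C.rel r).2))⁻¹ =
        cw ^ eps2.getD r 0 * cv ^ C.eps.getD r 0 := mul_inv_eq_iff_eq_mul.1 h1
    have hcc : cv ^ C.eps.getD r 0 * cw ^ eps2.getD r 0 = cw ^ eps2.getD r 0 * cv ^ C.eps.getD r 0 :=
      Subgroup.mem_center_iff.1 (pow_mem hcwc _) _
    rw [hcc, ← h1']
    have hcr := Subgroup.mem_center_iff.1 (hν.cen r) (ev C.M ν (C.dsum (C.rel r).1))
    simp only [mul_assoc, inv_mul_cancel_left]
    rw [← mul_assoc, hcr, mul_assoc]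
  have hTB := tab_sound hshape htab hν' hr'
  let T : Subgroup Γ := Subgroup.closure ({x | ∃ i < C.m, B i = x} ∪ {cv, cw})
  have hev' : ∀ F, ev C.M ν' F ∈ Subgroup.closure ({cv, cw} : Set Γ) := by
    refine ev_mem _ _ _ fun j => ?_
    simp only [ν']
    split_ifs
    · exact mul_mem (pow_mem (Subgroup.subset_closure (Set.mem_insert _ _)) _)
        (pow_mem (Subgroup.subset_closure (Set.mem_insert_of_mem _ (Set.mem_singleton _))) _)
    · exact one_mem _
  have hform : ∀ x ∈ T, ∃ z ∈ Subgroup.closure ({cv, cw} : Set Γ), ∃ e < C.N, z * C.sP B e = x := by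
    intro x hx
    rw [← Subgroup.mem_toSubmonoid, Subgroup.closure_toSubmonoid_of_finite] at hx
    induction hx using Submonoid.closure_induction_right with
    | one => exact ⟨1, one_mem _, 0, hN, by simp [sP, lets_zero]⟩
    | mul_right x _ y hy ih =>
      obtain ⟨z, hz, e, he, rfl⟩ := ih
      rcases hy with ⟨i, hi, rfl⟩ | hy
      · obtain ⟨h1, h2⟩ := hTB i hi e he
        exact ⟨_, mul_mem hz (hev' _), _, h1, by rw [mul_assoc z, mul_assoc z, h2]⟩
      · have hyc : y ∈ Subgroup.center Γ := by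
          rcases hy with rfl | hy
          · exact hcvc
          · rw [Set.mem_singleton_iff.1 hy]; exact hcwc
        exact ⟨_, mul_mem hz (Subgroup.subset_closure hy), e, he, by
          rw [mul_assoc z, mul_assoc z, Subgroup.mem_center_iff.1 hyc]⟩
  have hπB : ∀ e, π (C.sP B e) = C.sP g e := by
    intro e
    rw [sP, hB, map_mul, hπA, MonoidHom.mem_ker.1 (ev_mem π.ker C.M ν hker (C.dsum (C.lets e))),
      one_mul]
    rfl
  have hzk : Subgroup.closure ({cv, cw} : Set Γ) ≤ π.ker := (Subgroup.closure_le _).2 fun y hy => by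
    rcases hy with rfl | hy
    · exact hcvk
    · rw [Set.mem_singleton_iff.1 hy]; exact hcwk
  have hTk : ∀ x ∈ T, π x = 1 → x ∈ Subgroup.closure ({cv, cw} : Set Γ) := by
    intro x hx h1
    obtain ⟨z, hz, e, he, rfl⟩ := hform x hx
    rw [map_mul, MonoidHom.mem_ker.1 (hzk hz), one_mul, hπB] at h1
    have : e = 0 := hinj e he 0 hN (h1.trans (by simp [sP, lets_zero]))
    simpa [this, sP, lets_zero] using hz
  have hcard : Nat.card (T.map π) = C.N := by
    have hmem : ∀ e, C.sP B e ∈ T := fun e => list_prod_mem fun y hy => by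
      obtain ⟨k, hk, rfl⟩ := List.mem_map.1 hy
      exact Subgroup.subset_closure (Or.inl ⟨k, lets_lt hk, rfl⟩)
    let f : Fin C.N → T.map π := fun e => ⟨π (C.sP B e), ⟨_, hmem e, rfl⟩⟩
    have hf : Function.Bijective f := by
      refine ⟨fun a b h => Fin.ext (hinj a a.2 b b.2 ?_), ?_⟩
      · have := congrArg Subtype.val h
        simpa only [f, hπB] using this
      · rintro ⟨y, x, hx, rfl⟩
        obtain ⟨z, hz, e, he, rfl⟩ := hform x hx
        exact ⟨⟨e, he⟩, Subtype.ext (by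
          simp only [f, map_mul, MonoidHom.mem_ker.1 (hzk hz), one_mul])⟩
    rw [← Nat.card_congr (Equiv.ofBijective f hf), Nat.card_fin]
  refine ⟨cv, cw, mem_of_transfer π (fun y => ⟨L y, hL y⟩) hc hexp hd T _ hTk (hidx _ hcard),
    hcvk, hcwk, fun k h2 => ?_, fun k cc h2 => ?_⟩
  · show ev C.M ν C.c ^ k = 1
    rw [← ev_fscale hn.1 hn.2 _ _ _ hν.cen hν.exp, Nat.eq_of_beq_eq_true h2]
    exact hcombo _
  · show ev C.M ν c2 ^ k = 1
    rw [← ev_fscale hn.1 hn.2 _ _ _ hν.cen hν.exp, Nat.eq_of_beq_eq_true h2]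
    exact hcombo _

end Cfsg.Agent.MultU43
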