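import Cfsg.Agent.Lib.MultU43.Check
import Cfsg.Agent.Lib.MultU43.TwoData

/-! Kernel check of the certificate at 2. -/

set_option autoImplicit false
set_option maxRecDepth 20000
set_option Elab.async false

namespace Cfsg.Agent.MultU43

theorem check2 : cert2.shapeOk = true ∧ cert2.linOk = true ∧ groupOk cert2 gens2 conj2 = true ∧
    cert2.boundOk 4 = true ∧ incOk cert2 keys2 = true ∧ cert2.N = 128 ∧ cert2.n = 8 := by
  decide +kernel

theorem tab2 : cert2.tabOk = true := by decide +kernel

theorem form2 : ((List.range 128).all fun e => formOk cert2 gens2 keys2 pos2 srt2 e) = true := by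
  decide +kernel

theorem form2' : ∀ e < cert2.N, formOk cert2 gens2 keys2 pos2 srt2 e = true := fun e he =>
  List.all_eq_true.1 form2 e (List.mem_range.2 (check2.2.2.2.2.2.1 ▸ he))

end Cfsg.Agent.MultU43
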