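import Cfsg.Agent.Lib.MultU43.Check
import Cfsg.Agent.Lib.MultU43.ThreeData

/-! Kernel check of the certificate at 3, in parts. -/

set_option autoImplicit false
set_option maxRecDepth 20000
set_option Elab.async false

namespace Cfsg.Agent.MultU43

open Cfsg.Agent.StemCert

/-- The generators at 3. -/
def gens3 : List (List ℕ) := [[0], [1], [2], [6], [7], [8]]

theorem check3 : cert3.shapeOk = true ∧ linOk2 cert3 cert3C2 cert3Eps2 = true ∧
    groupOk cert3 gens3 conj3 = true ∧ cert3.boundOk 3 = true ∧
    Nat.beq (fscale 9 3 cert3.M cert3C2) (cert3.combo cert3CC2) = true ∧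
    incOk cert3 keys3 = true ∧ cert3.N = 729 ∧ cert3.n = 9 := by
  decide +kernel

/-- A part of the table. -/
def tabPart (i k : ℕ) : Bool := (List.range 243).all fun e => cert3.stepOk i (243 * k + e)

theorem tab3_0_0 : tabPart 0 0 = true := by decide +kernel
theorem tab3_0_1 : tabPart 0 1 = true := by decide +kernel
theorem tab3_0_2 : tabPart 0 2 = true := by decide +kernel
theorem tab3_1_0 : tabPart 1 0 = true := by decide +kernel
theorem tab3_1_1 : tabPart 1 1 = true := by decide +kernel
theorem tab3_1_2 : tabPart 1 2 = true := by decide +kernel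
theorem tab3_2_0 : tabPart 2 0 = true := by decide +kernel
theorem tab3_2_1 : tabPart 2 1 = true := by decide +kernel
theorem tab3_2_2 : tabPart 2 2 = true := by decide +kernel
theorem tab3_3_0 : tabPart 3 0 = true := by decide +kernel
theorem tab3_3_1 : tabPart 3 1 = true := by decide +kernel
theorem tab3_3_2 : tabPart 3 2 = true := by decide +kernel
theorem tab3_4_0 : tabPart 4 0 = true := by decide +kernel
theorem tab3_4_1 : tabPart 4 1 = true := by decide +kernel
theorem tab3_4_2 : tabPart 4 2 = true := by decide +kernel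
theorem tab3_5_0 : tabPart 5 0 = true := by decide +kernel
theorem tab3_5_1 : tabPart 5 1 = true := by decide +kernel
theorem tab3_5_2 : tabPart 5 2 = true := by decide +kernel

theorem tab3 : cert3.tabOk = true := by
  simp only [Cert.tabOk, List.all_eq_true, List.mem_range]
  intro i hi e he
  have hN : cert3.N = 729 := check3.2.2.2.2.2.2.1
  have hi' : i < 6 := hi
  have hk : ∀ i k, tabPart i k = true → ∀ e < 243, cert3.stepOk i (243 * k + e) = true :=
    fun i k h e he => List.all_eq_true.1 h e (List.mem_range.2 he)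
  obtain ⟨k, r, hk3, hr, rfl⟩ : ∃ k r, k < 3 ∧ r < 243 ∧ e = 243 * k + r :=
    ⟨e / 243, e % 243, by omega, by omega, by omega⟩
  interval_cases i <;> interval_cases k
  exact hk _ _ tab3_0_0 r hr
  exact hk _ _ tab3_0_1 r hr
  exact hk _ _ tab3_0_2 r hr
  exact hk _ _ tab3_1_0 r hr
  exact hk _ _ tab3_1_1 r hr
  exact hk _ _ tab3_1_2 r hr
  exact hk _ _ tab3_2_0 r hr
  exact hk _ _ tab3_2_1 r hr
  exact hk _ _ tab3_2_2 r hr
  exact hk _ _ tab3_3_0 r hr
  exact hk _ _ tab3_3_1 r hr
  exact hk _ _ tab3_3_2 r hr
  exact hk _ _ tab3_4_0 r hr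
  exact hk _ _ tab3_4_1 r hr
  exact hk _ _ tab3_4_2 r hr
  exact hk _ _ tab3_5_0 r hr
  exact hk _ _ tab3_5_1 r hr
  exact hk _ _ tab3_5_2 r hr

/-- A part of the normal forms. -/
def formPart (k : ℕ) : Bool :=
  (List.range 81).all fun e => formOk cert3 gens3 keys3 pos3 srt3 (81 * k + e)

theorem form3_0 : formPart 0 = true := by decide +kernel
theorem form3_1 : formPart 1 = true := by decide +kernel
theorem form3_2 : formPart 2 = true := by decide +kernel
theorem form3_3 : formPart 3 = true := by decide +kernel
theorem form3_4 : formPart 4 = true := by decide +kernel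
theorem form3_5 : formPart 5 = true := by decide +kernel
theorem form3_6 : formPart 6 = true := by decide +kernel
theorem form3_7 : formPart 7 = true := by decide +kernel
theorem form3_8 : formPart 8 = true := by decide +kernel

theorem form3' : ∀ e < cert3.N, formOk cert3 gens3 keys3 pos3 srt3 e = true := by
  intro e he
  rw [check3.2.2.2.2.2.2.1] at he
  have hk : ∀ k, formPart k = true → ∀ e < 81, formOk cert3 gens3 keys3 pos3 srt3 (81 * k + e) = true :=
    fun k h e he => List.all_eq_true.1 h e (List.mem_range.2 he)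
  obtain ⟨k, r, hk9, hr, rfl⟩ : ∃ k r, k < 9 ∧ r < 81 ∧ e = 81 * k + r :=
    ⟨e / 81, e % 81, by omega, by omega, by omega⟩
  interval_cases k
  exact hk _ form3_0 r hr
  exact hk _ form3_1 r hr
  exact hk _ form3_2 r hr
  exact hk _ form3_3 r hr
  exact hk _ form3_4 r hr
  exact hk _ form3_5 r hr
  exact hk _ form3_6 r hr
  exact hk _ form3_7 r hr
  exact hk _ form3_8 r hr

end Cfsg.Agent.MultU43
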