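import Cfsg.Agent.Lib.MultU43.Group
import Cfsg.Agent.Lib.MultU43.BoundTwo
import Cfsg.Agent.Lib.MultU43.Check2
import Cfsg.Agent.Lib.MultU43.Check3
import Cfsg.Agent.Lib.SchurSplit.SmallMain
import Cfsg.Prelude.Def_KGroupFacts

/-!
Every stem kernel of `PSU₄(3)` is an image of `Z/4 × Z/3 × Z/3`.
-/

set_option autoImplicit false
set_option maxRecDepth 20000

namespace Cfsg.Agent.MultU43

open Cfsg.Agent.StemCert

universe u

variable {F : Type u} [Field F] [Fintype F] (ι : Iso F) (hF : Fintype.card F = 9)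

theorem exists_prod (gl : List (List ℕ)) : ∀ w : List ℕ,
    ∃ x : S F, QuotientGroup.mk x = (w.map fun i => wP ι hF (gl.getD i [])).prod ∧
      code ι (mat x) = gC gl w
  | [] => ⟨1, rfl, code_one ι⟩
  | i :: w => by
    obtain ⟨x, hx, hc⟩ := exists_prod gl w
    obtain ⟨y, hy, hy'⟩ := rep_wP ι hF (gl.getD i [])
    exact ⟨y * x, by rw [List.map_cons, List.prod_cons, QuotientGroup.mk_mul, hy, hx],
      by rw [mat_mul, code_mul, hy', hc, gC]⟩

theorem pkey_prod (gl : List (List ℕ)) (w : List ℕ) :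
    pkey ι hF (w.map fun i => wP ι hF (gl.getD i [])).prod = mkey (gC gl w) := by
  obtain ⟨x, hx, hc⟩ := exists_prod ι hF gl w
  rw [← hx, pkey_mk, hc]

variable (C : Cert) (gl cl : List (List ℕ)) {keys pos srt : List ℕ}

include ι hF in
theorem rel_ok (hg : groupOk C gl cl = true) : ∀ r < C.rels.length,
    ((C.rel r).1.map fun i => wP ι hF (gl.getD i [])).prod =
      ((C.rel r).2.map fun i => wP ι hF (gl.getD i [])).prod := by
  intro r hr
  simp only [groupOk, Bool.and_eq_true, List.all_eq_true] at hg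
  refine pkey_injective ι hF ?_
  rw [pkey_prod, pkey_prod]
  refine Nat.eq_of_beq_eq_true (hg.2 _ ?_)
  rw [Cert.rel, List.getD_eq_getElem _ _ hr]; exact List.getElem_mem _

include ι hF in
theorem slot_ok (hg : groupOk C gl cl = true) : ∀ s < C.slots.length,
    wP ι hF (cl.getD (C.slot s).1 []) * C.sP (fun i => wP ι hF (gl.getD i [])) (C.slot s).2.1 =
      C.sP (fun i => wP ι hF (gl.getD i [])) (C.slot s).2.2 * wP ι hF (cl.getD (C.slot s).1 []) := by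
  intro s hs
  simp only [groupOk, Bool.and_eq_true, List.all_eq_true] at hg
  have hm : C.slot s ∈ C.slots := by
    rw [Cert.slot, List.getD_eq_getElem _ _ hs]; exact List.getElem_mem _
  refine pkey_injective ι hF ?_
  simp only [Cert.sP]
  rw [pkey_mul ι hF _ _ (rep_wP ι hF _) (exists_prod ι hF gl _),
    pkey_mul ι hF _ _ (exists_prod ι hF gl _) (rep_wP ι hF _)]
  exact Nat.eq_of_beq_eq_true (hg.1.2 _ hm).2

include ι hF in
theorem inj_ok (hform : ∀ e < C.N, formOk C gl keys pos srt e = true) (hinc : incOk C keys = true) :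
    ∀ e < C.N, ∀ f < C.N, C.sP (fun i => wP ι hF (gl.getD i [])) e =
      C.sP (fun i => wP ι hF (gl.getD i [])) f → e = f := by
  intro e he f hf h
  have h1 := hform e he
  have h2 := hform f hf
  simp only [formOk, Bool.and_eq_true, Nat.blt_eq] at h1 h2
  simp only [incOk, List.all_eq_true, List.mem_range, Nat.blt_eq] at hinc
  obtain ⟨⟨k1, l1⟩, i1⟩ := h1
  obtain ⟨⟨k2, l2⟩, i2⟩ := h2
  have hk : look keys 192 (look pos 10 e) = look keys 192 (look pos 10 f) := by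
    rw [← Nat.eq_of_beq_eq_true k1, ← Nat.eq_of_beq_eq_true k2, ← pkey_prod ι hF, ← pkey_prod ι hF]
    exact congrArg _ h
  have hmono : ∀ j, j < C.N → ∀ i < j, look keys 192 i < look keys 192 j := by
    intro j
    induction j with
    | zero => intro _ i hi; omega
    | succ j ih =>
      intro hj i hi
      have := hinc j (by omega)
      rcases Nat.lt_succ_iff_lt_or_eq.1 hi with hi' | rfl
      · exact lt_trans (ih (by omega) i hi') this
      · exact this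
  have hpos : look pos 10 e = look pos 10 f := by
    rcases lt_trichotomy (look pos 10 e) (look pos 10 f) with hl | hl | hl
    · exact absurd hk (ne_of_lt (hmono _ l2 _ hl))
    · exact hl
    · exact absurd hk.symm (ne_of_lt (hmono _ l1 _ hl))
  rw [← Nat.eq_of_beq_eq_true i1, hpos, Nat.eq_of_beq_eq_true i2]

include ι hF in
theorem idx_ok {m : ℕ} (hco : Nat.Coprime C.n (3265920 / m)) :
    ∀ H : Subgroup (P F), Nat.card H = m → Nat.Coprime C.n H.index := by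
  intro H hH
  haveI := finite_P hF
  have h := Subgroup.card_mul_index H
  rw [hH, card_P hF] at h
  rwa [← h, Nat.mul_div_cancel_left _ (hH ▸ Nat.card_pos)] at hco

variable {Γ : Type u} [Group Γ] [Finite Γ] (π : Γ →* P F) (hπ : Function.Surjective π)
  (hc : π.ker ≤ Subgroup.center Γ) (hd : π.ker ≤ commutator Γ)

include ι hF hπ hc hd in
theorem bound_two (hexp : ∀ z ∈ π.ker, z ^ 8 = 1) :
    ∃ cv : Γ, π.ker ≤ Subgroup.zpowers cv ∧ cv ^ 4 = 1 := by
  obtain ⟨h1, h3, h4, h5, h6, hN, hn⟩ := check2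
  obtain ⟨cv, hle, -, hb⟩ := ker_le_of_cert cert2 h1 tab2 h3 _ (fun c => wP ι hF (conj2.getD c [])) (rel_ok ι hF _ _ _ h4)
    (slot_ok ι hF _ _ _ h4) (inj_ok ι hF _ _ form2' h6)
    (idx_ok ι hF _ (by rw [hn, hN]; decide +kernel)) π hπ hc hd (by rw [hn]; exact hexp)
  exact ⟨cv, hle, hb 4 h5⟩

include ι hF hπ hc hd in
theorem bound_three (hexp : ∀ z ∈ π.ker, z ^ 9 = 1) :
    ∃ cv cw : Γ, π.ker ≤ Subgroup.closure {cv, cw} ∧ cv ∈ π.ker ∧ cw ∈ π.ker ∧
      cv ^ 3 = 1 ∧ cw ^ 3 = 1 := by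
  obtain ⟨h1, h3, h4, h5, h5', h6, hN, hn⟩ := check3
  obtain ⟨cv, cw, hle, hv, hw, hb, hb'⟩ := ker_le_of_cert2 cert3 cert3C2 cert3Eps2 h1 tab3 h3 _
    (fun c => wP ι hF (conj3.getD c []))
    (rel_ok ι hF _ _ _ h4) (slot_ok ι hF _ _ _ h4) (inj_ok ι hF _ _ form3' h6)
    (idx_ok ι hF _ (by rw [hn, hN]; decide +kernel)) π hπ hc hd (by rw [hn]; exact hexp)
  exact ⟨cv, cw, hle, hv, hw, hb 3 h5, hb' 3 cert3CC2 (by rw [hn]; exact h5')⟩

include ι hF hπ hc hd in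
theorem prime_dvd (p : ℕ) (hp : p.Prime) (h : p ∣ Nat.card π.ker) : p = 2 ∨ p = 3 := by
  haveI := finite_P hF
  letI : CommGroup π.ker :=
    { (inferInstance : Group π.ker) with
      mul_comm := fun a b => Subtype.ext (Subgroup.mem_center_iff.1 (hc b.2) a) }
  by_contra hne
  obtain ⟨K, hK⟩ := exists_index_prime hp h
  refine card_relIndex_ne (n := p) ?_ π hπ hc hd hK
  intro E _ _ σ hσ hσc hσd hσn
  refine SchurSplit.noExt_of_sq_not_dvd hp ?_ E σ hσ hσc hσn hσd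
  rw [card_P hF]
  intro hsq
  have hdvd : p ∣ 2 ^ 7 * 3 ^ 6 * 5 * 7 := (dvd_pow_self p two_ne_zero).trans (by norm_num; exact hsq)
  rcases hp.dvd_mul.1 hdvd with h | h
  · rcases hp.dvd_mul.1 h with h | h
    · rcases hp.dvd_mul.1 h with h | h
      · exact hne (Or.inl ((Nat.prime_dvd_prime_iff_eq hp Nat.prime_two).1 (hp.dvd_of_dvd_pow h)))
      · exact hne (Or.inr ((Nat.prime_dvd_prime_iff_eq hp Nat.prime_three).1 (hp.dvd_of_dvd_pow h)))
    · rw [(Nat.prime_dvd_prime_iff_eq hp (by norm_num)).1 h] at hsq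
      norm_num at hsq
  · rw [(Nat.prime_dvd_prime_iff_eq hp (by norm_num)).1 h] at hsq
    norm_num at hsq

/-- The powers of the kernel. -/
def powSub (hc : π.ker ≤ Subgroup.center Γ) (n : ℕ) : Subgroup Γ where
  carrier := {x | ∃ v ∈ π.ker, v ^ n = x}
  one_mem' := ⟨1, one_mem _, one_pow n⟩
  mul_mem' := by
    rintro x y ⟨v, hv, rfl⟩ ⟨w, hw, rfl⟩
    exact ⟨v * w, mul_mem hv hw,
      (show Commute v w from (Subgroup.mem_center_iff.1 (hc hv) w).symm).mul_pow n⟩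
  inv_mem' := by
    rintro x ⟨v, hv, rfl⟩
    exact ⟨v⁻¹, inv_mem hv, inv_pow v n⟩

omit [Finite Γ] in
theorem powSub_le (n : ℕ) : powSub π hc n ≤ π.ker := by
  rintro x ⟨v, hv, rfl⟩
  exact pow_mem hv n

include hπ hc hd in
/-- The quotient of a stem extension by the `n`-th powers of the kernel. -/
theorem exists_quot (n : ℕ) :
    ∃ (E : Type u) (_ : Group E) (_ : Finite E) (q : Γ →* E) (σ : E →* P F),
      Function.Surjective σ ∧ σ.ker ≤ Subgroup.center E ∧ σ.ker ≤ commutator E ∧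
      σ.ker = π.ker.map q ∧ (∀ x, q x = 1 ↔ ∃ v ∈ π.ker, v ^ n = x) ∧
      ∀ z ∈ σ.ker, z ^ n = 1 := by
  let K := powSub π hc n
  have hKle : K ≤ π.ker := powSub_le π hc n
  haveI : K.Normal := ⟨fun x hx g => by
    have := Subgroup.mem_center_iff.1 (hc (hKle hx)) g
    rwa [this, mul_inv_cancel_right]⟩
  let σ : Γ ⧸ K →* P F := QuotientGroup.lift K π hKle
  have hker : σ.ker = π.ker.map (QuotientGroup.mk' K) := by
    ext x
    obtain ⟨x, rfl⟩ := QuotientGroup.mk_surjective x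
    rw [MonoidHom.mem_ker]
    constructor
    · intro hx; exact ⟨x, MonoidHom.mem_ker.2 hx, rfl⟩
    · rintro ⟨y, hy, he⟩
      rw [← he]
      exact MonoidHom.mem_ker.1 hy
  refine ⟨Γ ⧸ K, inferInstance, inferInstance, QuotientGroup.mk' K, σ, ?_, ?_, ?_, hker, ?_, ?_⟩
  · intro y
    obtain ⟨x, rfl⟩ := hπ y
    exact ⟨QuotientGroup.mk x, rfl⟩
  · rw [hker]
    rintro _ ⟨y, hy, rfl⟩
    rw [Subgroup.mem_center_iff]
    intro z
    obtain ⟨x, rfl⟩ := QuotientGroup.mk_surjective z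
    show ((x * y : Γ) : Γ ⧸ K) = ((y * x : Γ) : Γ ⧸ K)
    rw [Subgroup.mem_center_iff.1 (hc hy) x]
  · rw [hker]
    refine (Subgroup.map_mono hd).trans ?_
    rw [commutator_def, Subgroup.map_commutator, commutator_def]
    exact Subgroup.commutator_mono le_top le_top
  · intro x
    rw [QuotientGroup.mk'_apply, QuotientGroup.eq_one_iff]
    rfl
  · rw [hker]
    rintro _ ⟨y, hy, rfl⟩
    rw [← map_pow, QuotientGroup.mk'_apply, QuotientGroup.eq_one_iff]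
    exact ⟨y, hy, rfl⟩

include ι hF hπ hc hd in
theorem two_part : ∃ a ∈ π.ker, ∀ v ∈ π.ker,
    (∃ w ∈ π.ker, w ^ 8 = v ^ 4) ∧ ∃ k : ℕ, ∃ w ∈ π.ker, v = a ^ k * w ^ 8 := by
  obtain ⟨E, _, _, q, σ, hs, hsc, hsd, hker, hq, hexp⟩ := exists_quot π hπ hc hd 8
  obtain ⟨cv, hle, hcv⟩ := bound_two ι hF σ hs hsc hsd hexp
  have hpow : ∀ v ∈ π.ker, ∃ k : ℕ, q v = cv ^ k := fun v hv => by
    have := hle (hker ▸ ⟨v, hv, rfl⟩ : q v ∈ σ.ker)
    obtain ⟨k, hk⟩ := mem_powers_iff_mem_zpowers.2 this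
    exact ⟨k, hk.symm⟩
  have hgen : ∃ a ∈ π.ker, ∀ v ∈ π.ker, ∃ k : ℕ, q v = q a ^ k := by
    let H : Subgroup E := π.ker.map q
    have hH : H ≤ Subgroup.zpowers cv := fun x hx => hle (hker ▸ hx)
    obtain ⟨g, hg⟩ := ((Subgroup.isCyclic_iff_exists_zpowers_eq_top H).1 (Subgroup.isCyclic_of_le hH))
    obtain ⟨a, ha, rfl⟩ : g ∈ H := hg ▸ Subgroup.mem_zpowers g
    refine ⟨a, ha, fun v hv => ?_⟩
    have hm : q v ∈ Subgroup.zpowers (q a) := hg.symm ▸ (⟨v, hv, rfl⟩ : q v ∈ H)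
    obtain ⟨k, hk⟩ := mem_powers_iff_mem_zpowers.2 hm
    exact ⟨k, hk.symm⟩
  obtain ⟨a, ha, hgen⟩ := hgen
  refine ⟨a, ha, fun v hv => ⟨?_, ?_⟩⟩
  · obtain ⟨k, hk⟩ := hpow v hv
    refine (hq _).1 ?_
    rw [map_pow, hk, ← pow_mul, mul_comm, pow_mul, hcv, one_pow]
  · obtain ⟨k, hk⟩ := hgen v hv
    obtain ⟨w, hw, e⟩ := (hq ((a ^ k)⁻¹ * v)).1 (by rw [map_mul, map_inv, map_pow, hk, inv_mul_cancel])
    exact ⟨k, w, hw, by rw [e, mul_inv_cancel_left]⟩

include ι hF hπ hc hd in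
theorem three_part : ∃ b ∈ π.ker, ∃ c ∈ π.ker, ∀ v ∈ π.ker,
    (∃ w ∈ π.ker, w ^ 9 = v ^ 3) ∧ ∃ k l : ℕ, ∃ w ∈ π.ker, v = b ^ k * c ^ l * w ^ 9 := by
  obtain ⟨E, _, _, q, σ, hs, hsc, hsd, hker, hq, hexp⟩ := exists_quot π hπ hc hd 9
  obtain ⟨cv, cw, hle, hv', hw', hb, hb'⟩ := bound_three ι hF σ hs hsc hsd hexp
  rw [hker] at hv' hw'
  obtain ⟨b, hb0, rfl⟩ := hv'
  obtain ⟨c, hc0, rfl⟩ := hw'
  have hbc : Commute b c := Subgroup.mem_center_iff.1 (hc hc0) b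
  have hall : ∀ v ∈ π.ker, ∃ k l : ℕ, q v = q b ^ k * q c ^ l := by
    intro v hv
    have hm := hle (hker ▸ ⟨v, hv, rfl⟩ : q v ∈ σ.ker)
    rw [← Subgroup.mem_toSubmonoid, Subgroup.closure_toSubmonoid_of_finite] at hm
    refine Submonoid.closure_induction (motive := fun x _ => ∃ k l : ℕ, x = q b ^ k * q c ^ l)
      ?_ ⟨0, 0, by simp⟩ ?_ hm
    · rintro x (rfl | hx)
      · exact ⟨1, 0, by simp⟩
      · rw [Set.mem_singleton_iff.1 hx]; exact ⟨0, 1, by simp⟩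
    · rintro x y - - ⟨k, l, rfl⟩ ⟨k', l', rfl⟩
      refine ⟨k + k', l + l', ?_⟩
      simp only [← map_pow, ← map_mul]
      refine congrArg q ?_
      rw [pow_add, pow_add, mul_assoc, mul_assoc, ← mul_assoc (c ^ l),
        ((hbc.pow_pow k' l).symm).eq, mul_assoc]
  refine ⟨b, hb0, c, hc0, fun v hv => ⟨?_, ?_⟩⟩
  · obtain ⟨k, l, hk⟩ := hall v hv
    refine (hq _).1 ?_
    rw [map_pow, hk, ((hbc.map q).pow_pow k l).mul_pow, ← pow_mul, ← pow_mul, mul_comm k,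
      mul_comm l, pow_mul, pow_mul, hb, hb', one_pow, one_pow, one_mul]
  · obtain ⟨k, l, hk⟩ := hall v hv
    obtain ⟨w, hw, e⟩ := (hq ((b ^ k * c ^ l)⁻¹ * v)).1 (by
      rw [map_mul, map_inv, map_mul, map_pow, map_pow, hk, inv_mul_cancel])
    exact ⟨k, l, w, hw, by rw [e, mul_inv_cancel_left]⟩

include ι hF hπ hc hd in
/-- The kernel is an image of `Z/4 × Z/3 × Z/3`. -/
theorem exists_onto :
    ∃ f : Multiplicative (ZMod 4 × ZMod 3 × ZMod 3) →* π.ker, Function.Surjective f := by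
  letI : CommGroup π.ker :=
    { (inferInstance : Group π.ker) with
      mul_comm := fun a b => Subtype.ext (Subgroup.mem_center_iff.1 (hc b.2) a) }
  obtain ⟨a, ha, hA⟩ := two_part ι hF π hπ hc hd
  obtain ⟨b, hb, c, hc', hB⟩ := three_part ι hF π hπ hc hd
  have hA' : ∀ v : π.ker, (∃ w : π.ker, w ^ 8 = v ^ 4) ∧
      ∃ k : ℕ, ∃ w : π.ker, v = (⟨a, ha⟩ : π.ker) ^ k * w ^ 8 := fun v => by
    obtain ⟨⟨w, hw, e⟩, k, w', hw', e'⟩ := hA v v.2
    exact ⟨⟨⟨w, hw⟩, Subtype.ext e⟩, k, ⟨w', hw'⟩, Subtype.ext e'⟩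
  have hB' : ∀ v : π.ker, (∃ w : π.ker, w ^ 9 = v ^ 3) ∧
      ∃ k l : ℕ, ∃ w : π.ker, v = (⟨b, hb⟩ : π.ker) ^ k * (⟨c, hc'⟩ : π.ker) ^ l * w ^ 9 := fun v => by
    obtain ⟨⟨w, hw, e⟩, k, l, w', hw', e'⟩ := hB v v.2
    exact ⟨⟨⟨w, hw⟩, Subtype.ext e⟩, k, l, ⟨w', hw'⟩, Subtype.ext e'⟩
  have h12 : ∀ v : π.ker, v ^ 12 = 1 := by
    let g : π.ker →* π.ker := powMonoidHom 12
    have hdvd : ∀ (p : ℕ), p.Prime → p ∣ Nat.card g.range → False := by
      intro p hp hd'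
      haveI : Fact p.Prime := ⟨hp⟩
      have hp23 := prime_dvd ι hF π hπ hc hd p hp (hd'.trans (Subgroup.card_subgroup_dvd_card _))
      obtain ⟨y, hy⟩ := exists_prime_orderOf_dvd_card' (G := g.range) p hd'
      -- the `p`-th power map is onto the twelfth powers, hence injective on them
      have hsurj : Function.Surjective (powMonoidHom p : g.range →* g.range) := by
        rintro ⟨_, v, rfl⟩
        rcases hp23 with rfl | rfl
        · have h2 : ∀ u : π.ker, ∃ t : π.ker, (t ^ 4) ^ 2 = u ^ 4 := fun u => by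
            obtain ⟨t, ht⟩ := (hA' u).1
            exact ⟨t, by rw [← pow_mul, ← ht]⟩
          obtain ⟨t, ht⟩ := h2 v
          refine ⟨⟨t ^ 12, t, rfl⟩, Subtype.ext ?_⟩
          show (t ^ 12) ^ 2 = v ^ 12
          rw [show v ^ 12 = (v ^ 4) ^ 3 by rw [← pow_mul], ← ht]
          simp only [← pow_mul]
        · obtain ⟨t, ht⟩ := (hB' v).1
          refine ⟨⟨t ^ 12, t, rfl⟩, Subtype.ext ?_⟩
          show (t ^ 12) ^ 3 = v ^ 12
          rw [show v ^ 12 = (v ^ 3) ^ 4 by rw [← pow_mul], ← ht]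
          simp only [← pow_mul]
      have hinj := (Finite.injective_iff_surjective).2 hsurj
      have h1 : y ^ p = (1 : g.range) ^ p := by rw [one_pow, ← hy, pow_orderOf_eq_one]
      rw [hinj h1, orderOf_one] at hy
      exact hp.ne_one hy.symm
    have h1 : Nat.card g.range = 1 := by
      by_contra hne
      obtain ⟨p, hp, hd'⟩ := Nat.exists_prime_and_dvd hne
      exact hdvd p hp hd'
    intro v
    have := (Subgroup.card_eq_one.1 h1).le ⟨v, rfl⟩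
    simpa [g] using this
  set a₀ : π.ker := ⟨a, ha⟩
  set b₀ : π.ker := ⟨b, hb⟩
  set c₀ : π.ker := ⟨c, hc'⟩
  have ha4 : (a₀ ^ 9) ^ 4 = 1 := by rw [← pow_mul, show 9 * 4 = 12 * 3 by norm_num, pow_mul, h12, one_pow]
  have hb3 : (b₀ ^ 4) ^ 3 = 1 := by rw [← pow_mul]; exact h12 _
  have hc3 : (c₀ ^ 4) ^ 3 = 1 := by rw [← pow_mul]; exact h12 _
  have hom : ∀ (n : ℕ) (x : π.ker), x ^ n = 1 →
      ∃ f : Multiplicative (ZMod n) →* π.ker, f (Multiplicative.ofAdd 1) = x := fun n x hx => by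
    let f0 : ℤ →+ Additive π.ker := zmultiplesHom _ (Additive.ofMul x)
    have h0 : f0 n = 0 := by
      show (n : ℤ) • Additive.ofMul x = 0
      rw [natCast_zsmul, ← ofMul_pow, hx, ofMul_one]
    refine ⟨AddMonoidHom.toMultiplicativeLeft (ZMod.lift n ⟨f0, h0⟩), ?_⟩
    show (ZMod.lift n ⟨f0, h0⟩ (1 : ZMod n)).toMul = x
    rw [show (1 : ZMod n) = ((1 : ℤ) : ZMod n) by simp, ZMod.lift_coe]
    simp [f0]
  obtain ⟨fa, hfa⟩ := hom 4 _ ha4
  obtain ⟨fb, hfb⟩ := hom 3 _ hb3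
  obtain ⟨fc, hfc⟩ := hom 3 _ hc3
  let f : Multiplicative (ZMod 4 × ZMod 3 × ZMod 3) →* π.ker :=
    (fa.comp (AddMonoidHom.toMultiplicative (AddMonoidHom.fst (ZMod 4) (ZMod 3 × ZMod 3)))) *
    ((fb.comp (AddMonoidHom.toMultiplicative
      ((AddMonoidHom.fst (ZMod 3) (ZMod 3)).comp (AddMonoidHom.snd (ZMod 4) (ZMod 3 × ZMod 3))))) *
    (fc.comp (AddMonoidHom.toMultiplicative
      ((AddMonoidHom.snd (ZMod 3) (ZMod 3)).comp (AddMonoidHom.snd (ZMod 4) (ZMod 3 × ZMod 3))))))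
  refine ⟨f, ?_⟩
  have e1 : a₀ ^ 9 ∈ f.range := ⟨Multiplicative.ofAdd (1, 0, 0), by simp [f, hfa]⟩
  have e2 : b₀ ^ 4 ∈ f.range := ⟨Multiplicative.ofAdd (0, 1, 0), by simp [f, hfb]⟩
  have e3 : c₀ ^ 4 ∈ f.range := ⟨Multiplicative.ofAdd (0, 0, 1), by simp [f, hfc]⟩
  intro v
  obtain ⟨-, k, w, hv⟩ := hA' v
  obtain ⟨-, k', l', w', hv'⟩ := hB' v
  have v9 : v ^ 9 = (a₀ ^ 9) ^ k := by
    have h := congrArg (fun x : π.ker => x ^ 9) hv
    simp only [mul_pow, ← pow_mul] at h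
    rw [show 8 * 9 = 12 * 6 by norm_num, pow_mul w, h12, one_pow, mul_one] at h
    rw [h, ← pow_mul, mul_comm]
  have v4 : v ^ 4 = (b₀ ^ 4) ^ k' * (c₀ ^ 4) ^ l' := by
    have h := congrArg (fun x : π.ker => x ^ 4) hv'
    simp only [mul_pow, ← pow_mul] at h
    rw [show 9 * 4 = 12 * 3 by norm_num, pow_mul w', h12, one_pow, mul_one] at h
    rw [h, ← pow_mul, ← pow_mul, mul_comm k', mul_comm l']
  have hv1 : v = v ^ 9 * ((v ^ 4) ^ 2)⁻¹ := by
    rw [← pow_mul, show 4 * 2 = 8 by norm_num, pow_succ v 8]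
    simp
  have hmem : v ∈ f.range := by
    rw [hv1, v9, v4]
    exact mul_mem (pow_mem e1 _) (inv_mem (pow_mem (mul_mem (pow_mem e2 _) (pow_mem e3 _)) _))
  exact hmem

end Cfsg.Agent.MultU43
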