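import Cfsg.Agent.Lib.MultU43.CoverChecks
import Cfsg.Agent.Lib.MultU43.Bound
import Cfsg.Agent.Lib.StemCert.Cor

/-!
Two triple stem covers of `PSU₄(3)`: the corestrictions of two torus invariant cocycles of a Sylow
3-subgroup.
-/

set_option autoImplicit false
set_option maxRecDepth 20000

namespace Cfsg.Agent.MultU43

open Cfsg.Agent.StemCert

universe u

/-- The two tables give the same product of normal forms. -/
class Same (T : Tab) : Prop where
  eq : ∀ i < 6, ∀ e < 729, stp T e i % 729 = stp tabA e i % 729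

instance : Same tabA := ⟨fun _ _ _ _ => rfl⟩

instance : Same tabB := ⟨fun i hi e he => by
  have h := formStep_ok hi he
  simp only [formStep, Bool.and_eq_true] at h
  exact (Nat.eq_of_beq_eq_true h.2).symm⟩

variable {F : Type u} [Field F] [Fintype F] (ι : Iso F) (hF : Fintype.card F = 9)

theorem rep_gen (r : ℕ) :
    ∃ x : S F, QuotientGroup.mk x = wP ι hF [r] ∧ code ι (mat x) = rootsC.getD r idC :=
  ⟨gS ι hF r, by rw [wP, wS, wS, mul_one], (exists_gen ι hF r).choose_spec⟩

theorem pkey_gen (r : ℕ) : pkey ι hF (wP ι hF [r]) = mkey (rootsC.getD r idC) := by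
  obtain ⟨x, hx, hc⟩ := rep_gen ι hF r
  rw [← hx, pkey_mk, hc]

/-- The element of a normal form. -/
noncomputable def el (e : ℕ) : P F := wP ι hF ((lts e).map rt)

/-- A torus element. -/
noncomputable def tor (j : ℕ) : P F := wP ι hF (torW.getD j [])

variable {T : Tab} [Good T] [Same T]

theorem key_run {w : List ℕ} (hw : ∀ i ∈ w, i < 6) :
    pkey ι hF (wP ι hF (w.map rt)) = fc (run T w 0 % 729) := by
  induction w using List.reverseRecOn with
  | nil =>
    have h := tor_ok
    simp only [torOk, Bool.and_eq_true] at h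
    rw [List.map_nil, wP_nil, pkey_one]
    exact (Nat.eq_of_beq_eq_true h.1.1.1.1.1).symm
  | append_singleton w i ih =>
    have hi : i < 6 := hw i (by simp)
    have ih' := ih fun k hk => hw k (List.mem_append_left _ hk)
    have hlt : run T w 0 % 729 < 729 := Nat.mod_lt _ (by norm_num)
    have h := formStep_ok hi hlt
    simp only [formStep, Bool.and_eq_true] at h
    rw [List.map_append, wP_append, List.map_singleton,
      pkey_mul ι hF _ _ (rep_pkey ι hF _) (rep_gen ι hF _), ih', Nat.eq_of_beq_eq_true h.1,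
      ← Same.eq (T := T) i hi _ hlt, run_append]
    refine congrArg fc ?_
    show stp T (run T w 0 % 729) i % 729 = stp T (run T w 0) i % 729
    unfold stp
    simp only [Nat.mod_mod]
    omega

theorem key_el {e : ℕ} (he : e < 729) : pkey ι hF (el ι hF e) = fc e := by
  rw [el, key_run ι hF (T := tabA) fun i => lts_lt, (nf he).1, Nat.mod_eq_of_lt he]

theorem el_word {w : List ℕ} (hw : ∀ i ∈ w, i < 6) :
    wP ι hF (w.map rt) = el ι hF (run T w 0 % 729) :=
  pkey_injective ι hF (by rw [key_run ι hF (T := T) hw, key_el ι hF (Nat.mod_lt _ (by norm_num))])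

theorem el_mul {a b : ℕ} (ha : a < 729) : el ι hF a * el ι hF b = el ι hF (mu T a b) := by
  rw [el, el, ← wP_append, ← List.map_append, el_word ι hF (T := T) (fun i hi => ?_), run_append,
    (nf ha).1]
  · rfl
  · rcases List.mem_append.1 hi with h | h <;> exact lts_lt h

theorem el_zero : el ι hF 0 = 1 := by rw [el, lts_zero]; rfl

theorem tor_zero : tor ι hF 0 = 1 := by rfl

theorem key_tor (j : ℕ) : pkey ι hF (tor ι hF j) = mkey (tc j) := pkey_wP ι hF _

theorem tor_mul {i j : ℕ} (hi : i < 4) (hj : j < 4) :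
    tor ι hF i * tor ι hF j = tor ι hF ((i + j) % 4) := by
  have h := tor_ok
  simp only [torOk, Bool.and_eq_true, List.all_eq_true, List.mem_range] at h
  refine pkey_injective ι hF ?_
  rw [tor, tor, pkey_mul ι hF _ _ (rep_wP ι hF _) (rep_wP ι hF _), key_tor]
  exact Nat.eq_of_beq_eq_true (h.1.1.1.2 i hi j hj)

theorem tor_gen {j i : ℕ} (hj : j < 4) (hi : i < 6) :
    tor ι hF j * wP ι hF [rt i] = el ι hF (sig j (3 ^ i)) * tor ι hF j := by
  have h := tor_ok
  simp only [torOk, Bool.and_eq_true, List.all_eq_true, List.mem_range] at h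
  have h3 : 3 ^ i < 729 := by interval_cases i <;> norm_num
  refine pkey_injective ι hF ?_
  rw [tor, pkey_mul ι hF _ _ (rep_wP ι hF _) (rep_gen ι hF _),
    pkey_mul ι hF _ _ (rep_pkey ι hF (el ι hF _)) (rep_wP ι hF _), key_el ι hF (sig_lt hj h3)]
  exact Nat.eq_of_beq_eq_true (h.1.1.2 j hj i hi)

theorem tor_el {j e : ℕ} (hj : j < 4) (he : e < 729) :
    tor ι hF j * el ι hF e = el ι hF (sig j e) * tor ι hF j := by
  have key' : ∀ w : List ℕ, (∀ i ∈ w, i < 6) → tor ι hF j * wP ι hF (w.map rt) =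
      wP ι hF ((w.flatMap fun i => lts (sig j (3 ^ i))).map rt) * tor ι hF j := by
    intro w hw
    induction w with
    | nil => simp [wP_nil]
    | cons i w ih =>
      have h1 := tor_gen ι hF hj (hw i List.mem_cons_self)
      rw [show (i :: w).map rt = [rt i] ++ w.map rt from rfl, wP_append, List.flatMap_cons,
        List.map_append, wP_append, ← mul_assoc, h1, mul_assoc,
        ih fun k hk => hw k (List.mem_cons_of_mem _ hk), ← mul_assoc, el]
  have h0 := sig_run (T := tabA) hj (w := lts e) (fun i => lts_lt) (x := 0) (by norm_num)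
  have e0 : shift (0 / 729) (sig j (0 % 729)) = 0 := by rw [sig_zero hj]; rfl
  rw [(nf he).1, e0, Nat.div_eq_of_lt he, Nat.mod_eq_of_lt he] at h0
  rw [el, key' _ fun i => lts_lt, el_word ι hF (T := tabA) (fun i hi => ?_), h0]
  · have hs := sig_lt hj he
    congr 2
    unfold shift
    omega
  · obtain ⟨k, -, hk⟩ := List.mem_flatMap.1 hi
    exact lts_lt hk

include ι hF in
theorem el_inj {a b : ℕ} (ha : a < 729) (hb : b < 729) (h : el ι hF a = el ι hF b) : a = b := by
  have hk := congrArg (pkey ι hF) h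
  rw [key_el ι hF ha, key_el ι hF hb] at hk
  have ht := tor_ok
  simp only [torOk, Bool.and_eq_true, List.all_eq_true, List.mem_range] at ht
  obtain ⟨-, -, h4, -, -, h6, hN, -⟩ := check3
  have h1 := form3' a (by omega)
  have h2 := form3' b (by omega)
  refine inj_ok ι hF cert3 gens3 form3' h6 a (by omega) b (by omega) (pkey_injective ι hF ?_)
  simp only [formOk, Bool.and_eq_true] at h1 h2
  rw [Cert.sP, Cert.sP, pkey_prod, pkey_prod, Nat.eq_of_beq_eq_true h1.1.1,
    Nat.eq_of_beq_eq_true h2.1.1, ← Nat.eq_of_beq_eq_true (ht.2 a ha),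
    ← Nat.eq_of_beq_eq_true (ht.2 b hb), hk]

include ι hF in
theorem el_ne_tor {j e : ℕ} (hj : j < 4) (he : e < 729) (h : tor ι hF j = el ι hF e) : j = 0 := by
  by_contra hne
  have ht := tor_ok
  simp only [torOk, Bool.and_eq_true, List.all_eq_true, List.mem_range] at ht
  have h1 := ht.1.2 (j - 1) (by omega) e he
  rw [Nat.sub_add_cancel (Nat.one_le_iff_ne_zero.2 hne), ← key_tor ι hF, h, key_el ι hF he,
    Nat.beq_refl] at h1
  simp at h1

theorem borel_mul {a i b j : ℕ} (ha : a < 729) (hi : i < 4) (hb : b < 729) (hj : j < 4) :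
    el ι hF a * tor ι hF i * (el ι hF b * tor ι hF j) =
      el ι hF (mu T a (sig i b)) * tor ι hF ((i + j) % 4) := by
  rw [mul_assoc, ← mul_assoc (tor ι hF i), tor_el ι hF hi hb, mul_assoc (el ι hF (sig i b)),
    ← mul_assoc, el_mul ι hF (T := T) ha, tor_mul ι hF hi hj]

/-- The Borel subgroup. -/
noncomputable def borel : Subgroup (P F) where
  carrier := {x | ∃ a i, a < 729 ∧ i < 4 ∧ x = el ι hF a * tor ι hF i}
  one_mem' := ⟨0, 0, by norm_num, by norm_num, by rw [el_zero, tor_zero, mul_one]⟩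
  mul_mem' := by
    rintro x y ⟨a, i, ha, hi, rfl⟩ ⟨b, j, hb, hj, rfl⟩
    exact ⟨_, _, mu_lt (T := tabA) _ _, Nat.mod_lt _ (by norm_num),
      borel_mul ι hF (T := tabA) ha hi hb hj⟩
  inv_mem' := by
    intro x hx
    haveI := finite_P hF
    have hp : ∀ n : ℕ, ∃ a i, a < 729 ∧ i < 4 ∧ x ^ n = el ι hF a * tor ι hF i := by
      intro n
      induction n with
      | zero => exact ⟨0, 0, by norm_num, by norm_num, by rw [el_zero, tor_zero, mul_one, pow_zero]⟩
      | succ n ih =>
        obtain ⟨a, i, ha, hi, e⟩ := ih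
        obtain ⟨b, j, hb, hj, rfl⟩ := hx
        exact ⟨_, _, mu_lt (T := tabA) _ _, Nat.mod_lt _ (by norm_num),
          by rw [pow_succ, e, borel_mul ι hF (T := tabA) ha hi hb hj]⟩
    obtain ⟨a, i, ha, hi, e⟩ := hp (orderOf x - 1)
    refine ⟨a, i, ha, hi, ?_⟩
    rw [← e]
    refine inv_eq_of_mul_eq_one_right ?_
    rw [← pow_succ', Nat.sub_add_cancel (orderOf_pos x), pow_orderOf_eq_one]

include ι hF in
theorem crd_unique {a i b j : ℕ} (ha : a < 729) (hi : i < 4) (hb : b < 729) (hj : j < 4)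
    (h : el ι hF a * tor ι hF i = el ι hF b * tor ι hF j) : a = b ∧ i = j := by
  haveI := finite_P hF
  have hc : ∀ n : ℕ, ∃ c, c < 729 ∧ el ι hF a ^ n = el ι hF c := by
    intro n
    induction n with
    | zero => exact ⟨0, by norm_num, by rw [el_zero, pow_zero]⟩
    | succ n ih =>
      obtain ⟨c, hc, e⟩ := ih
      exact ⟨_, mu_lt (T := tabA) _ _, by rw [pow_succ, e, el_mul ι hF (T := tabA) hc]⟩
  obtain ⟨c, hc', e⟩ := hc (orderOf (el ι hF a) - 1)
  have h1 : el ι hF c * el ι hF a = 1 := by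
    rw [← e, ← pow_succ, Nat.sub_add_cancel (orderOf_pos _), pow_orderOf_eq_one]
  have hj' : (4 - j) % 4 < 4 := Nat.mod_lt _ (by norm_num)
  have h2 : tor ι hF ((i + (4 - j) % 4) % 4) = el ι hF (mu tabA c b) := by
    have h3 := congrArg (fun x => el ι hF c * x * tor ι hF ((4 - j) % 4)) h
    rw [← mul_assoc, h1, one_mul, tor_mul ι hF hi hj', mul_assoc (el ι hF c), mul_assoc,
      tor_mul ι hF hj hj', show (j + (4 - j) % 4) % 4 = 0 by omega, tor_zero, mul_one,
      el_mul ι hF (T := tabA) hc'] at h3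
    exact h3
  have h0 := el_ne_tor ι hF (Nat.mod_lt _ (by norm_num)) (mu_lt (T := tabA) _ _) h2
  have hij : i = j := by omega
  subst hij
  exact ⟨el_inj ι hF ha hb (mul_right_cancel h), rfl⟩

/-- Coordinates in the Borel subgroup. -/
noncomputable def crd (x : P F) : ℕ × ℕ :=
  open Classical in
  if h : ∃ a i, a < 729 ∧ i < 4 ∧ x = el ι hF a * tor ι hF i then ⟨h.choose, h.choose_spec.choose⟩
  else ⟨0, 0⟩

theorem crd_eq {a i : ℕ} (ha : a < 729) (hi : i < 4) :
    crd ι hF (el ι hF a * tor ι hF i) = (a, i) := by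
  have h : ∃ b j, b < 729 ∧ j < 4 ∧ el ι hF a * tor ι hF i = el ι hF b * tor ι hF j :=
    ⟨a, i, ha, hi, rfl⟩
  rw [crd, dif_pos h]
  obtain ⟨h1, h2, h3⟩ := h.choose_spec.choose_spec
  obtain ⟨e1, e2⟩ := crd_unique ι hF ha hi h1 h2 h3
  exact Prod.ext e1.symm e2.symm

/-- The cocycle on the Borel subgroup. -/
noncomputable def cob (T : Tab) (x y : P F) : ZMod 3 :=
  phi T (crd ι hF x).1 (sig (crd ι hF x).2 (crd ι hF y).1)

theorem cob_eq (T : Tab) {a i b j : ℕ} (ha : a < 729) (hi : i < 4) (hb : b < 729) (hj : j < 4) :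
    cob ι hF T (el ι hF a * tor ι hF i) (el ι hF b * tor ι hF j) = phi T a (sig i b) := by
  rw [cob, crd_eq ι hF ha hi, crd_eq ι hF hb hj]

theorem fiveGen_lt {a : ℕ} : fiveGen a < 9 := by
  rcases a with _ | _ | _ | _ | _ | a <;> simp [fiveGen]

include ι hF in
theorem exists_rep : ∀ i, i < 1120 → ∃ x : P F, pkey ι hF x = rc i := by
  intro i
  induction i using Nat.strong_induction_on with
  | _ i ih =>
    intro hi
    have h := repStep_ok i hi
    simp only [repStep] at h
    by_cases h0 : i = 0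
    · subst h0
      exact ⟨1, (pkey_one ι hF).trans (Nat.eq_of_beq_eq_true h).symm⟩
    · rw [show Nat.beq i 0 = false from Bool.eq_false_iff.2 fun e => h0 (Nat.eq_of_beq_eq_true e),
        cond_false] at h
      simp only [Bool.and_eq_true, Nat.blt_eq] at h
      obtain ⟨⟨hp, -⟩, he⟩ := h
      obtain ⟨y, hy⟩ := ih _ hp (by omega)
      refine ⟨wP ι hF [fiveGen (look repW 14 i / 2048)] * y, ?_⟩
      rw [pkey_mul ι hF _ _ (rep_gen ι hF _) (rep_pkey ι hF y), hy]
      exact Nat.eq_of_beq_eq_true he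

/-- A representative. -/
noncomputable def rEl (i : Fin 1120) : P F := (exists_rep ι hF i i.2).choose

theorem key_rEl (i : Fin 1120) : pkey ι hF (rEl ι hF i) = rc i :=
  (exists_rep ι hF i i.2).choose_spec

/-- An element acting on the cosets. -/
noncomputable def act (a : ℕ) : P F := wP ι hF (actW.getD a [])

theorem act_eq {a : ℕ} (ha : a < 8) (i : Fin 1120) :
    ∃ h : actQ a i < 1120, act ι hF a * rEl ι hF i =
      rEl ι hF ⟨actQ a i, h⟩ * (el ι hF (actE a i) * tor ι hF (actJ a i)) ∧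
        actE a i < 729 ∧ actJ a i < 4 := by
  have h := actStep_ok ha i.2
  simp only [actStep, Bool.and_eq_true, Nat.blt_eq] at h
  refine ⟨h.1.1, pkey_injective ι hF ?_, h.1.2, Nat.mod_lt _ (by norm_num)⟩
  obtain ⟨x, hx, hxc⟩ := rep_pkey ι hF (el ι hF (actE a i))
  obtain ⟨y, hy, hyc⟩ := rep_wP ι hF (torW.getD (actJ a i) [])
  rw [act, pkey_mul ι hF _ _ (rep_wP ι hF _) (rep_pkey ι hF _), key_rEl,
    pkey_mul ι hF _ _ (rep_pkey ι hF _)
      ⟨x * y, by rw [QuotientGroup.mk_mul, hx, hy]; rfl, by rw [mat_mul, code_mul, hxc, hyc]⟩,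
    key_rEl, key_el ι hF h.1.2]
  exact Nat.eq_of_beq_eq_true h.2

/-- The coset of a representative. -/
noncomputable def pt (i : Fin 1120) : P F ⧸ borel ι hF := QuotientGroup.mk (rEl ι hF i)

theorem act_pt {a : ℕ} (ha : a < 8) (i : Fin 1120) :
    ∃ h : actQ a i < 1120, act ι hF a • pt ι hF i = pt ι hF ⟨actQ a i, h⟩ := by
  obtain ⟨h, e, he, hj⟩ := act_eq ι hF ha i
  refine ⟨h, ?_⟩
  show QuotientGroup.mk (act ι hF a * rEl ι hF i) = _
  rw [e]
  exact QuotientGroup.mk_mul_of_mem _ ⟨_, _, he, hj, rfl⟩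

/-- The elements permuting the cosets of the representatives. -/
def stab : Subgroup (P F) where
  carrier := {g | ∀ i, ∃ q, g • pt ι hF i = pt ι hF q}
  one_mem' := fun i => ⟨i, one_smul _ _⟩
  mul_mem' := fun {a b} ha hb i => by
    obtain ⟨q, hq⟩ := hb i
    obtain ⟨r, hr⟩ := ha q
    exact ⟨r, by rw [mul_smul, hq, hr]⟩
  inv_mem' := fun {a} ha => by
    haveI := finite_P hF
    have hp : ∀ (n : ℕ) i, ∃ q, a ^ n • pt ι hF i = pt ι hF q := fun n => by
      induction n with
      | zero => exact fun i => ⟨i, by rw [pow_zero, one_smul]⟩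
      | succ n ih =>
        intro i
        obtain ⟨q, hq⟩ := ha i
        obtain ⟨r, hr⟩ := ih q
        exact ⟨r, by rw [pow_succ, mul_smul, hq, hr]⟩
    rw [show a⁻¹ = a ^ (orderOf a - 1) from inv_eq_of_mul_eq_one_right (by
      rw [← pow_succ', Nat.sub_add_cancel (orderOf_pos a), pow_orderOf_eq_one])]
    exact hp _

include ι hF in
theorem wP_mem_stab : ∀ w : List ℕ, wP ι hF w ∈ stab ι hF := by
  have h := gen_ok
  simp only [genOk, Bool.and_eq_true, List.all_eq_true, List.mem_range] at h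
  obtain ⟨⟨⟨⟨⟨⟨⟨⟨⟨⟨hact, hlen⟩, hw⟩, hk⟩, -⟩, -⟩, -⟩, -⟩, -⟩, -⟩, -⟩ := h
  have hfive : ∀ a < 5, wP ι hF [fiveGen a] ∈ stab ι hF := fun a ha i => by
    obtain ⟨h1, e⟩ := act_pt ι hF (show a < 8 by omega) i
    rw [act, beq_iff_eq.1 (hact a ha)] at e
    exact ⟨_, e⟩
  have hroot : ∀ r, wP ι hF [r] ∈ stab ι hF := by
    intro r
    by_cases hr : r < 9
    · have e : wP ι hF [r] = wP ι hF (genW.getD r []) := pkey_injective ι hF (by
        rw [pkey_gen, pkey_wP]
        exact Nat.eq_of_beq_eq_true (hk r hr))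
      rw [e]
      have hm : genW.getD r [] ∈ genW := by
        rw [List.getD_eq_getElem _ _ (by rw [Nat.eq_of_beq_eq_true hlen]; exact hr)]
        exact List.getElem_mem _
      have hw' := hw _ hm
      generalize genW.getD r [] = w at hw'
      induction w with
      | nil => exact one_mem _
      | cons x w ih =>
        rw [show x :: w = [x] ++ w from rfl, wP_append]
        refine mul_mem ?_ (ih fun y hy => hw' y (List.mem_cons_of_mem _ hy))
        obtain ⟨a, ha, e⟩ := List.any_eq_true.1 (hw' x List.mem_cons_self)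
        rw [Nat.eq_of_beq_eq_true e]
        exact hfive a (List.mem_range.1 ha)
    · have e : wP ι hF [r] = 1 := pkey_injective ι hF (by
        rw [pkey_gen, pkey_one, List.getD_eq_default _ _ (by simp [rootsC]; omega)])
      rw [e]
      exact one_mem _
  intro w
  induction w with
  | nil => exact one_mem _
  | cons x w ih =>
    rw [show x :: w = [x] ++ w from rfl, wP_append]
    exact mul_mem (hroot x) ih

theorem card_borel : Nat.card (borel ι hF) = 2916 := by
  rw [show 2916 = Nat.card (Fin 729 × Fin 4) by simp]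
  refine (Nat.card_congr (Equiv.ofBijective
    (fun x : Fin 729 × Fin 4 =>
      (⟨el ι hF x.1 * tor ι hF x.2, x.1, x.2, x.1.2, x.2.2, rfl⟩ : borel ι hF))
    ⟨fun x y h => ?_,
      fun ⟨g, a, i, ha, hi, e⟩ => ⟨(⟨a, ha⟩, ⟨i, hi⟩), Subtype.ext e.symm⟩⟩)).symm
  obtain ⟨e1, e2⟩ := crd_unique ι hF x.1.2 x.2.2 y.1.2 y.2.2 (congrArg Subtype.val h)
  exact Prod.ext (Fin.ext e1) (Fin.ext e2)

theorem borel_le_stab : borel ι hF ≤ stab ι hF := by
  rintro x ⟨a, i, -, -, rfl⟩
  exact mul_mem (wP_mem_stab ι hF _) (wP_mem_stab ι hF _)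

include ι hF in
theorem sylow_two_le_stab : ∃ H : Subgroup (P F), Nat.card H = 128 ∧ H ≤ stab ι hF := by
  haveI := finite_P hF
  obtain ⟨h1, -, h4, -, h6, hN, -⟩ := check2
  obtain ⟨hn, hN0, -⟩ := Cert.shape h1
  let A : ℕ → P F := fun i => wP ι hF (gens2.getD i [])
  let ν : ℕ → P F := fun _ => 1
  have hν : Cert.Unk cert2 ν := ⟨fun _ => one_mem _, fun _ => one_pow _⟩
  have hr : Cert.RelHyp cert2 ν A := fun r hr => by
    rw [one_mul]; exact rel_ok ι hF _ _ _ h4 r hr
  have hT := Cert.tab_sound h1 tab2 hν hr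
  have hev : ∀ v, ev cert2.M ν v = 1 := fun v =>
    Subgroup.mem_bot.1 (ev_mem ⊥ _ _ (fun _ => Subgroup.mem_bot.2 rfl) v)
  have hmul : ∀ a < cert2.N, ∀ b, ∃ c < cert2.N, cert2.sP A a * cert2.sP A b = cert2.sP A c := by
    intro a ha b
    have h := Cert.sP_mul_word hn hν hT (ks := cert2.lets b) (fun k => Cert.lets_lt) 0 ha
    refine ⟨_, h.1, ?_⟩
    have h2 := h.2
    rwa [hev, hev, one_mul, one_mul] at h2
  let H : Subgroup (P F) :=
    { carrier := {x | ∃ e < cert2.N, x = cert2.sP A e}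
      one_mem' := ⟨0, hN0, by simp [Cert.sP, Cert.lets_zero]⟩
      mul_mem' := by
        rintro x y ⟨a, ha, rfl⟩ ⟨b, -, rfl⟩
        exact hmul a ha b
      inv_mem' := by
        intro x hx
        have hp : ∀ n : ℕ, ∃ e < cert2.N, x ^ n = cert2.sP A e := fun n => by
          induction n with
          | zero => exact ⟨0, hN0, by simp [Cert.sP, Cert.lets_zero]⟩
          | succ n ih =>
            obtain ⟨a, ha, e⟩ := ih
            obtain ⟨b, -, rfl⟩ := hx
            rw [pow_succ, e]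
            exact hmul a ha b
        show ∃ e < cert2.N, x⁻¹ = cert2.sP A e
        rw [show x⁻¹ = x ^ (orderOf x - 1) from inv_eq_of_mul_eq_one_right (by
          rw [← pow_succ', Nat.sub_add_cancel (orderOf_pos x), pow_orderOf_eq_one])]
        exact hp _ }
  refine ⟨H, ?_, ?_⟩
  · rw [show 128 = Nat.card (Fin cert2.N) by rw [Nat.card_fin, hN]]
    refine (Nat.card_congr (Equiv.ofBijective
      (fun e : Fin cert2.N => (⟨cert2.sP A e, e, e.2, rfl⟩ : H))
      ⟨fun x y h => ?_, fun ⟨g, e, he, he'⟩ => ⟨⟨e, he⟩, Subtype.ext he'.symm⟩⟩)).symm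
    exact Fin.ext (inj_ok ι hF _ _ form2' h6 x x.2 y y.2 (congrArg Subtype.val h))
  · rintro x ⟨e, -, rfl⟩
    exact list_prod_mem fun y hy => by
      obtain ⟨i, -, rfl⟩ := List.mem_map.1 hy
      exact wP_mem_stab ι hF _

theorem wP_pow (w : List ℕ) : ∀ n, wP ι hF w ^ n = wP ι hF (List.replicate n w).flatten
  | 0 => by simp [wP_nil]
  | n + 1 => by rw [pow_succ', wP_pow w n, List.replicate_succ, List.flatten_cons, wP_append]

include ι hF in
theorem stab_eq_top : stab ι hF = ⊤ := by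
  haveI := finite_P hF
  have h := gen_ok
  simp only [genOk, Bool.and_eq_true, Bool.not_eq_true'] at h
  obtain ⟨⟨⟨⟨⟨-, h5⟩, h7⟩, h5'⟩, h7'⟩, -⟩ := h
  have ord : ∀ (w : List ℕ) (p : ℕ), p.Prime →
      Nat.beq (mkey (wC (List.replicate p w).flatten)) (mkey idC) = true →
      Nat.beq (mkey (wC w)) (mkey idC) = false → p ∣ Nat.card (stab ι hF) := by
    intro w p hp h1 h2
    haveI : Fact p.Prime := ⟨hp⟩
    have e : orderOf (wP ι hF w) = p := by
      refine orderOf_eq_prime (pkey_injective ι hF ?_) fun hw => ?_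
      · rw [wP_pow, pkey_wP, pkey_one]; exact Nat.eq_of_beq_eq_true h1
      · rw [← pkey_wP ι hF, hw, pkey_one, Nat.beq_refl] at h2
        exact absurd h2 (by decide)
    exact e ▸ Subgroup.orderOf_dvd_natCard _ (wP_mem_stab ι hF w)
  obtain ⟨H, hH, hle⟩ := sylow_two_le_stab ι hF
  have d2 := hH ▸ Subgroup.card_dvd_of_le hle
  have d3 := (card_borel ι hF) ▸ Subgroup.card_dvd_of_le (borel_le_stab ι hF)
  have d5 := ord _ 5 (by norm_num) h5 h5'
  have d7 := ord _ 7 (by norm_num) h7 h7'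
  refine Subgroup.eq_top_of_le_card _ (Nat.le_of_dvd Nat.card_pos ?_)
  rw [card_P hF, show 3265920 = 128 * 729 * 5 * 7 by norm_num]
  have d3' : 729 ∣ Nat.card (stab ι hF) := (by norm_num : 729 ∣ 2916).trans d3
  refine Nat.Coprime.mul_dvd_of_dvd_of_dvd (by norm_num) (Nat.Coprime.mul_dvd_of_dvd_of_dvd
    (by norm_num) (Nat.Coprime.mul_dvd_of_dvd_of_dvd (by norm_num) d2 d3') d5) d7

theorem pt_surjective : Function.Surjective (pt ι hF) := by
  intro x
  obtain ⟨g, rfl⟩ := QuotientGroup.mk_surjective x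
  have h0 : rEl ι hF 0 = 1 := pkey_injective ι hF (by
    rw [key_rEl, pkey_one]
    exact Nat.eq_of_beq_eq_true (repStep_ok 0 (by norm_num)))
  have hg : g ∈ stab ι hF := stab_eq_top ι hF ▸ Subgroup.mem_top g
  obtain ⟨q, hq⟩ := hg 0
  refine ⟨q, ?_⟩
  rw [← hq]
  show QuotientGroup.mk (g * rEl ι hF 0) = _
  rw [h0, mul_one]

theorem pt_bijective : Function.Bijective (pt ι hF) := by
  haveI := finite_P hF
  refine (Nat.bijective_iff_surjective_and_card _).2 ⟨pt_surjective ι hF, ?_⟩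
  have h := Subgroup.card_mul_index (borel ι hF)
  rw [card_borel, card_P hF, Subgroup.index_eq_card] at h
  rw [Nat.card_fin]
  omega

/-- The datum of the corestriction of a class. -/
noncomputable abbrev datum (T : Tab) [Good T] [Same T] : Cor.Datum (P F) 3 where
  B := borel ι hF
  rep x := rEl ι hF ((Equiv.ofBijective _ (pt_bijective ι hF)).symm x)
  rep_spec x := (Equiv.ofBijective _ (pt_bijective ι hF)).apply_symm_apply x
  c := cob ι hF T
  one_left := by
    rintro h ⟨b, j, hb, hj, rfl⟩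
    have e := cob_eq ι hF T (show 0 < 729 by norm_num) (show 0 < 4 by norm_num) hb hj
    rw [el_zero, tor_zero, one_mul] at e
    rw [e, sig_zero_left, (phi_zero_left hb).1]
  one_right := by
    rintro g ⟨a, i, ha, hi, rfl⟩
    have e := cob_eq ι hF T ha hi (show 0 < 729 by norm_num) (show 0 < 4 by norm_num)
    rw [el_zero, tor_zero, one_mul] at e
    rw [e, sig_zero hi, (phi_zero_right ha).1]
  cocycle := by
    rintro g ⟨a, i, ha, hi, rfl⟩ h ⟨b, j, hb, hj, rfl⟩ k ⟨c, l, hc, hl, rfl⟩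
    have hs := sig_lt hi hb
    have hjc := sig_lt hj hc
    rw [borel_mul ι hF (T := T) ha hi hb hj, borel_mul ι hF (T := T) hb hj hc hl,
      cob_eq ι hF T ha hi hb hj, cob_eq ι hF T (mu_lt _ _) (Nat.mod_lt _ (by norm_num)) hc hl,
      cob_eq ι hF T hb hj hc hl, cob_eq ι hF T ha hi (mu_lt _ _) (Nat.mod_lt _ (by norm_num)),
      ← sig_sig hi hj hc, (phi_cocycle ha hs).1, ← (sig_phi hi hb hjc).1, (sig_phi hi hb hjc).2]

theorem mon_act (T : Tab) [Good T] [Same T] {a : ℕ} (ha : a < 8) (i : Fin 1120) :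
    Cor.mon (datum ι hF T) (act ι hF a) (pt ι hF i) =
      el ι hF (actE a i) * tor ι hF (actJ a i) := by
  obtain ⟨h, e, -⟩ := act_eq ι hF ha i
  obtain ⟨h', e'⟩ := act_pt ι hF ha i
  have hr : ∀ q, (datum ι hF T).rep (pt ι hF q) = rEl ι hF q := fun q => by
    show rEl ι hF ((Equiv.ofBijective _ (pt_bijective ι hF)).symm (pt ι hF q)) = _
    rw [Equiv.ofBijective_symm_apply_apply]
  show ((datum ι hF T).rep (act ι hF a • pt ι hF i))⁻¹ * act ι hF a *
    (datum ι hF T).rep (pt ι hF i) = _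
  rw [e', hr, hr, mul_assoc, e, inv_mul_cancel_left]

theorem cor_act (T : Tab) [Good T] [Same T] {a b : ℕ} (ha : a < 8) (hb : b < 8) :
    haveI := finite_P hF
    Cor.cor (datum ι hF T) (act ι hF a) (act ι hF b) =
      ∑ i : Fin 1120, phi T (actE a (actQ b i)) (sig (actJ a (actQ b i)) (actE b i)) := by
  haveI := finite_P hF
  letI := Fintype.ofFinite (P F ⧸ borel ι hF)
  refine Eq.trans ?_ (Finset.sum_congr rfl fun i _ => rfl)
  refine (Fintype.sum_bijective (pt ι hF) (pt_bijective ι hF) _ _ fun i => ?_).symm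
  obtain ⟨h, e⟩ := act_pt ι hF hb i
  obtain ⟨_, -, h1, h2⟩ := act_eq ι hF hb i
  obtain ⟨_, -, h3, h4⟩ := act_eq ι hF ha ⟨actQ b i, h⟩
  rw [e, mon_act ι hF T hb, mon_act ι hF T ha]
  exact (cob_eq ι hF T h3 h4 h1 h2).symm

/-- The commutator of two lifts, by the sum of the pairing. -/
theorem cor_sub (T : Tab) [Good T] [Same T] {a b : ℕ} (ha : a < 8) (hb : b < 8) :
    haveI := finite_P hF
    Cor.cor (datum ι hF T) (act ι hF a) (act ι hF b) -
      Cor.cor (datum ι hF T) (act ι hF b) (act ι hF a) = (pairSum T a b : ℕ) := by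
  rw [cor_act ι hF T ha hb, cor_act ι hF T hb ha]
  have hs : ((List.range 1120).map (pairTerm T a b)).sum = ∑ i : Fin 1120, pairTerm T a b i := by
    rw [Fin.sum_univ_eq_sum_range (pairTerm T a b) 1120]
    rfl
  rw [pairSum, ZMod.natCast_mod, hs, Nat.cast_sum]
  simp only [pairTerm, Nat.cast_add, Nat.cast_mul, Finset.sum_add_distrib, ← Finset.mul_sum, phi]
  rw [Nat.cast_ofNat, show (2 : ZMod 3) = -1 from rfl, neg_one_mul, sub_eq_add_neg]

end Cfsg.Agent.MultU43
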