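import Mathlib.Data.Nat.Notation
import Mathlib.Data.List.Defs

/-! Data for the multiplier of U₄(3) (found by an unshipped search). -/

set_option autoImplicit false
set_option maxRecDepth 20000

namespace Cfsg.Agent.MultU43

/-- Two elements whose lifts do not commute. -/
def wordA : List ℕ := [1, 3, 1, 3, 5, 1, 2, 2]

/-- The second one. -/
def wordB : List ℕ := [2, 8, 8, 3, 3, 0, 1, 3, 1, 3]

end Cfsg.Agent.MultU43
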