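import Cfsg.Agent.Lib.MultU43.Table
import Cfsg.Agent.Lib.MultU43.ThreeData
import Cfsg.Agent.Lib.MultU43.ScalarData

/-!
The checkers for the cover of `PSU₄(3)` at the prime three.
-/

set_option autoImplicit false

namespace Cfsg.Agent.MultU43

/-- The key of a normal form. -/
def fc (e : ℕ) : ℕ := look formT 192 e

/-- The key of a representative. -/
def rc (i : ℕ) : ℕ := look repT 192 i

/-- The code of a torus element. -/
def tc (j : ℕ) : List ℕ := wC (torW.getD j [])

/-- One step of the table of normal forms, and the agreement of the two tables. -/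
def formStep (i e : ℕ) : Bool :=
  Nat.beq (mkey (mmul (unk (fc e)) (rootsC.getD (rt i) idC))) (fc (stp tabA e i % 729)) &&
    Nat.beq (stp tabA e i % 729) (stp tabB e i % 729)

/-- The torus. -/
def torOk : Bool :=
  Nat.beq (fc 0) (mkey idC) && Nat.beq torW.length 4 &&
  (List.range 4).all (fun i => (List.range 4).all fun j =>
    Nat.beq (mkey (mmul (tc i) (tc j))) (mkey (tc ((i + j) % 4)))) &&
  (List.range 4).all (fun j => (List.range 6).all fun i =>
    Nat.beq (mkey (mmul (tc j) (rootsC.getD (rt i) idC)))
      (mkey (mmul (unk (fc (sig j (3 ^ i)))) (tc j)))) &&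
  (List.range 3).all (fun j =>
    let t := mkey (tc (j + 1))
    (List.range 729).all fun e => !Nat.beq (fc e) t) &&
  (List.range 729).all (fun e => Nat.beq (fc e) (look keys3 192 (look pos3 10 e)))

/-- The five generators used on the representatives. -/
def fiveGen (a : ℕ) : ℕ := [0, 1, 2, 3, 5].getD a 0

/-- The parents of the representatives. -/
def repStep (i : ℕ) : Bool :=
  let v := look repW 14 i
  bif Nat.beq i 0 then Nat.beq (rc i) (mkey idC) else
    Nat.blt (v % 2048) i && Nat.blt (v / 2048) 5 &&
      Nat.beq (mkey (mmul (rootsC.getD (fiveGen (v / 2048)) idC) (unk (rc (v % 2048))))) (rc i)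

/-- The coset. -/
def actQ (a i : ℕ) : ℕ := look (actT.getD a []) 24 i / 4096

/-- The normal form. -/
def actE (a i : ℕ) : ℕ := look (actT.getD a []) 24 i % 4096 / 4

/-- The torus part. -/
def actJ (a i : ℕ) : ℕ := look (actT.getD a []) 24 i % 4

/-- One entry of the action. -/
def actStep (a i : ℕ) : Bool :=
  Nat.blt (actQ a i) 1120 && Nat.blt (actE a i) 729 &&
    Nat.beq (mkey (mmul (wC (actW.getD a [])) (unk (rc i))))
      (mkey (mmul (unk (rc (actQ a i))) (mmul (unk (fc (actE a i))) (tc (actJ a i)))))

/-- An element of order five. -/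
def word5 : List ℕ := [3, 1]

/-- An element of order seven. -/
def word7 : List ℕ := [5, 2, 1, 5, 3]

/-- The generators, the commuting pairs, the elements of order five and seven. -/
def genOk : Bool :=
  (List.range 5).all (fun a => actW.getD a [] == [fiveGen a]) &&
  Nat.beq genW.length 9 &&
  genW.all (fun w => w.all fun r => (List.range 5).any fun a => Nat.beq r (fiveGen a)) &&
  (List.range 9).all (fun r => Nat.beq (mkey (rootsC.getD r idC)) (mkey (wC (genW.getD r [])))) &&
  Nat.beq (mkey (mmul (wC (actW.getD 0 [])) (wC (actW.getD 5 []))))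
    (mkey (mmul (wC (actW.getD 5 [])) (wC (actW.getD 0 [])))) &&
  Nat.beq (mkey (mmul (wC (actW.getD 6 [])) (wC (actW.getD 7 []))))
    (mkey (mmul (wC (actW.getD 7 [])) (wC (actW.getD 6 [])))) &&
  Nat.beq (mkey (wC (List.replicate 5 word5).flatten)) (mkey idC) &&
  Nat.beq (mkey (wC (List.replicate 7 word7).flatten)) (mkey idC) &&
  !Nat.beq (mkey (wC word5)) (mkey idC) && !Nat.beq (mkey (wC word7)) (mkey idC) &&
  mmul (wC wordA) (wC wordB) == sI (mmul (wC wordB) (wC wordA))

/-- The two sides of the commutator pairing at a coset. -/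
def pairTerm (T : Tab) (a b i : ℕ) : ℕ :=
  phiN T (actE a (actQ b i)) (sig (actJ a (actQ b i)) (actE b i)) +
    2 * phiN T (actE b (actQ a i)) (sig (actJ b (actQ a i)) (actE a i))

/-- The sum of the pairing over the cosets. -/
def pairSum (T : Tab) (a b : ℕ) : ℕ := ((List.range 1120).map (pairTerm T a b)).sum % 3

/-- A part of a check. -/
def part (f : ℕ → Bool) (n k : ℕ) : Bool := (List.range n).all fun e => f (n * k + e)

theorem of_parts {f : ℕ → Bool} {n m : ℕ} (hn : 0 < n) (h : ∀ k < m, part f n k = true) :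
    ∀ e < n * m, f e = true := by
  intro e he
  have h1 := List.all_eq_true.1 (h (e / n) ((Nat.div_lt_iff_lt_mul hn).2 (by rwa [Nat.mul_comm])))
    (e % n) (List.mem_range.2 (Nat.mod_lt _ hn))
  rwa [Nat.div_add_mod] at h1

end Cfsg.Agent.MultU43
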