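import Cfsg.Agent.Lib.MultU43.Code
import Cfsg.Agent.Lib.StemCert.Cert

/-!
The checker for the certificates of the bound.
-/

set_option autoImplicit false

namespace Cfsg.Agent.MultU43

open Cfsg.Agent.StemCert

/-- The identities in the group. -/
def groupOk (C : Cert) (gl cl : List (List ℕ)) : Bool :=
  Nat.beq gl.length C.m &&
  C.slots.all (fun s => Nat.blt s.1 cl.length &&
    Nat.beq (mkey (mmul (wC (cl.getD s.1 [])) (gC gl (C.lets s.2.1))))
      (mkey (mmul (gC gl (C.lets s.2.2)) (wC (cl.getD s.1 []))))) &&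
  C.rels.all (fun r => Nat.beq (mkey (gC gl r.1)) (mkey (gC gl r.2)))

/-- A normal form has the key at its place. -/
def formOk (C : Cert) (gl : List (List ℕ)) (keys pos srt : List ℕ) (e : ℕ) : Bool :=
  Nat.beq (mkey (gC gl (C.lets e))) (look keys 192 (look pos 10 e)) &&
    Nat.blt (look pos 10 e) C.N && Nat.beq (look srt 10 (look pos 10 e)) e

/-- The keys increase. -/
def incOk (C : Cert) (keys : List ℕ) : Bool :=
  (List.range (C.N - 1)).all fun i => Nat.blt (look keys 192 i) (look keys 192 (i + 1))

/-- The second cyclic bound. -/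
def resid2 (C : Cert) (c2 : ℕ) (eps2 : List ℕ) (r : ℕ) : ℕ :=
  C.sub (C.resid r) (fscale C.n (eps2.getD r 0) C.M c2)

/-- The linear algebra with two cyclic bounds. -/
def linOk2 (C : Cert) (c2 : ℕ) (eps2 : List ℕ) : Bool :=
  C.derived == C.rows &&
    (List.range C.rels.length).all (fun r => Nat.beq (resid2 C c2 eps2 r) (C.combo (C.combs.getD r [])))

end Cfsg.Agent.MultU43
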