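import Cfsg.Agent.Lib.MultU43.CoverData
import Mathlib

/-!
Packed codes for matrices of degree four over the field with nine elements.
-/

set_option autoImplicit false

namespace Cfsg.Agent.MultU43

/-- The field with nine elements, for computations. -/
structure K9 where
  /-- the first coordinate -/
  re : ZMod 3
  /-- the second coordinate -/
  im : ZMod 3
deriving DecidableEq, Fintype

namespace K9

/-- Sum. -/
def add (a b : K9) : K9 := ⟨a.re + b.re, a.im + b.im⟩
/-- Product. -/
def mul (a b : K9) : K9 := ⟨a.re * b.re - a.im * b.im, a.re * b.im + a.im * b.re⟩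
/-- Conjugate. -/
def conj (a : K9) : K9 := ⟨a.re, -a.im⟩
/-- The square root of `-1`. -/
def I : K9 := ⟨0, 1⟩
/-- Zero. -/
def zero : K9 := ⟨0, 0⟩
/-- One. -/
def one : K9 := ⟨1, 0⟩

end K9

/-- Matrices over the model. -/
abbrev Mk : Type := Fin 4 → Fin 4 → K9

/-- Product of two matrices over the model. -/
def kmul (A B : Mk) : Mk := fun i j =>
  K9.add (K9.add (K9.mul (A i 0) (B 0 j)) (K9.mul (A i 1) (B 1 j)))
    (K9.add (K9.mul (A i 2) (B 2 j)) (K9.mul (A i 3) (B 3 j)))

/-- The unit matrix over the model. -/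
def kone : Mk := fun i j => if i = j then K9.one else K9.zero

/-- Multiplication by the square root of `-1`. -/
def kI (A : Mk) : Mk := fun i j => K9.mul K9.I (A i j)

/-- A row in digits of base sixty-four. -/
def enc (v : Fin 8 → ℕ) : ℕ :=
  v 0 + 64 * v 1 + 4096 * v 2 + 262144 * v 3 + 16777216 * v 4 + 1073741824 * v 5 +
    68719476736 * v 6 + 4398046511104 * v 7

/-- The digits of a row over the model. -/
def rowDigits (r : Fin 4 → K9) : Fin 8 → ℕ :=
  ![(r 0).re.val, (r 1).re.val, (r 2).re.val, (r 3).re.val,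
    (r 0).im.val, (r 1).im.val, (r 2).im.val, (r 3).im.val]

/-- The code of a row. -/
def encR (r : Fin 4 → K9) : ℕ := enc (rowDigits r)

/-- The code of a matrix over the model. -/
def codeK (A : Mk) : List ℕ := [encR (A 0), encR (A 1), encR (A 2), encR (A 3)]

/-- Reduction of the digits modulo three. -/
def red (x : ℕ) : ℕ :=
  x % 64 % 3 + 64 * (x / 64 % 64 % 3) + 4096 * (x / 4096 % 64 % 3) + 262144 * (x / 262144 % 64 % 3) +
    16777216 * (x / 16777216 % 64 % 3) + 1073741824 * (x / 1073741824 % 64 % 3) +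
    68719476736 * (x / 68719476736 % 64 % 3) + 4398046511104 * (x / 4398046511104 % 64 % 3)

/-- A row times the square root of `-1`. -/
def iRow (x : ℕ) : ℕ := red (2 * (x / 16777216) + 16777216 * (x % 16777216))

/-- One row of a product. -/
def rowMul (B : List ℕ) (a : ℕ) : ℕ :=
  match B with
  | [b0, b1, b2, b3] =>
    red (a % 64 * b0 + a / 64 % 64 * b1 + a / 4096 % 64 * b2 + a / 262144 % 64 * b3 +
      a / 16777216 % 64 * iRow b0 + a / 1073741824 % 64 * iRow b1 + a / 68719476736 % 64 * iRow b2 +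
      a / 4398046511104 % 64 * iRow b3)
  | _ => 0

/-- The product of two codes. -/
def mmul (A B : List ℕ) : List ℕ := A.map (rowMul B)

/-- Multiplication of a code by the square root of `-1`. -/
def sI (A : List ℕ) : List ℕ := A.map iRow

theorem digits {x0 x1 x2 x3 x4 x5 x6 x7 : ℕ} (h0 : x0 < 64) (h1 : x1 < 64) (h2 : x2 < 64)
    (h3 : x3 < 64) (h4 : x4 < 64) (h5 : x5 < 64) (h6 : x6 < 64) (h7 : x7 < 64) {y : ℕ}
    (hy : y = x0 + 64 * x1 + 4096 * x2 + 262144 * x3 + 16777216 * x4 + 1073741824 * x5 +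
      68719476736 * x6 + 4398046511104 * x7) :
    y % 64 = x0 ∧ y / 64 % 64 = x1 ∧ y / 4096 % 64 = x2 ∧ y / 262144 % 64 = x3 ∧
      y / 16777216 % 64 = x4 ∧ y / 1073741824 % 64 = x5 ∧ y / 68719476736 % 64 = x6 ∧
      y / 4398046511104 % 64 = x7 := by
  subst hy
  refine ⟨?_, ?_, ?_, ?_, ?_, ?_, ?_, ?_⟩ <;> omega

theorem val_lt (z : ZMod 3) : z.val < 3 := ZMod.val_lt z

theorem red_enc {w : Fin 8 → ℕ} (h : ∀ k, w k < 64) : red (enc w) = enc fun k => w k % 3 := by
  obtain ⟨a0, a1, a2, a3, a4, a5, a6, a7⟩ :=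
    digits (h 0) (h 1) (h 2) (h 3) (h 4) (h 5) (h 6) (h 7) (y := enc w) rfl
  simp only [red, a0, a1, a2, a3, a4, a5, a6, a7]
  rfl

theorem i_re : ∀ b : ZMod 3, 2 * b.val % 3 = (-b).val := by decide

theorem i_im : ∀ a : ZMod 3, a.val % 3 = a.val := by decide

theorem iRow_encR (r : Fin 4 → K9) : iRow (encR r) = encR fun j => K9.mul K9.I (r j) := by
  have hb : ∀ k, rowDigits r k < 3 := fun k => by fin_cases k <;> exact val_lt _
  set w : Fin 8 → ℕ := ![2 * (r 0).im.val, 2 * (r 1).im.val, 2 * (r 2).im.val, 2 * (r 3).im.val,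
    (r 0).re.val, (r 1).re.val, (r 2).re.val, (r 3).re.val] with hw
  have h64 : ∀ k, w k < 64 := fun k => by
    have := val_lt (r 0).re; have := val_lt (r 1).re; have := val_lt (r 2).re; have := val_lt (r 3).re
    have := val_lt (r 0).im; have := val_lt (r 1).im; have := val_lt (r 2).im; have := val_lt (r 3).im
    fin_cases k <;> simp [hw] <;> omega
  have e : 2 * (encR r / 16777216) + 16777216 * (encR r % 16777216) = enc w := by
    have := hb 0; have := hb 1; have := hb 2; have := hb 3
    simp only [encR, enc, rowDigits, hw, Matrix.cons_val_zero, Matrix.cons_val_one, Matrix.cons_val]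
    have := val_lt (r 0).re; have := val_lt (r 1).re; have := val_lt (r 2).re; have := val_lt (r 3).re
    have := val_lt (r 0).im; have := val_lt (r 1).im; have := val_lt (r 2).im; have := val_lt (r 3).im
    omega
  rw [iRow, e, red_enc h64]
  refine congrArg enc (funext fun k => ?_)
  fin_cases k <;> simp [hw, rowDigits, K9.mul, K9.I, i_re, i_im]

/-- The digit of a product before reduction. -/
def preR (a : Fin 4 → K9) (B : Mk) (j : Fin 4) : ℕ :=
  (a 0).re.val * (B 0 j).re.val + (a 1).re.val * (B 1 j).re.val + (a 2).re.val * (B 2 j).re.val +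
    (a 3).re.val * (B 3 j).re.val + (a 0).im.val * (-(B 0 j).im).val + (a 1).im.val * (-(B 1 j).im).val +
    (a 2).im.val * (-(B 2 j).im).val + (a 3).im.val * (-(B 3 j).im).val

/-- The digit of the second coordinate of a product before reduction. -/
def preI (a : Fin 4 → K9) (B : Mk) (j : Fin 4) : ℕ :=
  (a 0).re.val * (B 0 j).im.val + (a 1).re.val * (B 1 j).im.val + (a 2).re.val * (B 2 j).im.val +
    (a 3).re.val * (B 3 j).im.val + (a 0).im.val * (B 0 j).re.val + (a 1).im.val * (B 1 j).re.val +
    (a 2).im.val * (B 2 j).re.val + (a 3).im.val * (B 3 j).re.val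

theorem rowMul_codeK (a : Fin 4 → K9) (B : Mk) :
    rowMul (codeK B) (encR a) = encR fun j =>
      K9.add (K9.add (K9.mul (a 0) (B 0 j)) (K9.mul (a 1) (B 1 j)))
        (K9.add (K9.mul (a 2) (B 2 j)) (K9.mul (a 3) (B 3 j))) := by
  have hd : ∀ k, rowDigits a k < 64 := fun k => by
    have := val_lt (a 0).re; have := val_lt (a 1).re; have := val_lt (a 2).re; have := val_lt (a 3).re
    have := val_lt (a 0).im; have := val_lt (a 1).im; have := val_lt (a 2).im; have := val_lt (a 3).im
    fin_cases k <;> simp [rowDigits] <;> omega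
  obtain ⟨a0, a1, a2, a3, a4, a5, a6, a7⟩ :=
    digits (hd 0) (hd 1) (hd 2) (hd 3) (hd 4) (hd 5) (hd 6) (hd 7) (y := encR a) rfl
  simp only [codeK, rowMul, a0, a1, a2, a3, a4, a5, a6, a7, iRow_encR]
  set w : Fin 8 → ℕ := ![preR a B 0, preR a B 1, preR a B 2, preR a B 3,
    preI a B 0, preI a B 1, preI a B 2, preI a B 3] with hw
  have hb : ∀ (x y : ZMod 3), x.val * y.val ≤ 4 := fun x y =>
    Nat.mul_le_mul (Nat.le_of_lt_succ (val_lt x)) (Nat.le_of_lt_succ (val_lt y))
  have hR : ∀ j, preR a B j < 64 := fun j => by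
    have := hb (a 0).re (B 0 j).re; have := hb (a 1).re (B 1 j).re; have := hb (a 2).re (B 2 j).re
    have := hb (a 3).re (B 3 j).re; have := hb (a 0).im (-(B 0 j).im); have := hb (a 1).im (-(B 1 j).im)
    have := hb (a 2).im (-(B 2 j).im); have := hb (a 3).im (-(B 3 j).im)
    simp only [preR]; omega
  have hI : ∀ j, preI a B j < 64 := fun j => by
    have := hb (a 0).re (B 0 j).im; have := hb (a 1).re (B 1 j).im; have := hb (a 2).re (B 2 j).im
    have := hb (a 3).re (B 3 j).im; have := hb (a 0).im (B 0 j).re; have := hb (a 1).im (B 1 j).re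
    have := hb (a 2).im (B 2 j).re; have := hb (a 3).im (B 3 j).re
    simp only [preI]; omega
  have h64 : ∀ k, w k < 64 := fun k => by
    fin_cases k
    exacts [hR 0, hR 1, hR 2, hR 3, hI 0, hI 1, hI 2, hI 3]
  have e : rowDigits a 0 * encR (B 0) + rowDigits a 1 * encR (B 1) + rowDigits a 2 * encR (B 2) +
      rowDigits a 3 * encR (B 3) + rowDigits a 4 * encR (fun j => K9.mul K9.I (B 0 j)) +
      rowDigits a 5 * encR (fun j => K9.mul K9.I (B 1 j)) +
      rowDigits a 6 * encR (fun j => K9.mul K9.I (B 2 j)) +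
      rowDigits a 7 * encR (fun j => K9.mul K9.I (B 3 j)) = enc w := by
    simp [hw, encR, enc, rowDigits, K9.mul, K9.I, preR, preI]
    ring
  rw [e, red_enc h64]
  refine congrArg enc (funext fun k => ?_)
  fin_cases k <;>
    (simp [hw, rowDigits, preR, preI, K9.mul, K9.add]
     rw [← ZMod.val_natCast]
     congr 1
     push_cast
     simp only [ZMod.natCast_val, ZMod.cast_id', id]
     ring)

theorem mmul_codeK (A B : Mk) : mmul (codeK A) (codeK B) = codeK (kmul A B) := by
  show [rowMul (codeK B) _, rowMul (codeK B) _, rowMul (codeK B) _, rowMul (codeK B) _] = _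
  simp only [rowMul_codeK]
  rfl

theorem sI_codeK (A : Mk) : sI (codeK A) = codeK (kI A) := by
  show [iRow _, iRow _, iRow _, iRow _] = _
  simp only [iRow_encR]
  rfl

theorem encR_lt (r : Fin 4 → K9) : encR r < 281474976710656 := by
  have := val_lt (r 0).re; have := val_lt (r 1).re; have := val_lt (r 2).re; have := val_lt (r 3).re
  have := val_lt (r 0).im; have := val_lt (r 1).im; have := val_lt (r 2).im; have := val_lt (r 3).im
  simp [encR, enc, rowDigits]
  omega

theorem encR_injective : Function.Injective encR := by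
  intro r s h
  have hd : ∀ (r : Fin 4 → K9) k, rowDigits r k < 64 := fun r k => by
    have := val_lt (r 0).re; have := val_lt (r 1).re; have := val_lt (r 2).re; have := val_lt (r 3).re
    have := val_lt (r 0).im; have := val_lt (r 1).im; have := val_lt (r 2).im; have := val_lt (r 3).im
    fin_cases k <;> simp [rowDigits] <;> omega
  obtain ⟨a0, a1, a2, a3, a4, a5, a6, a7⟩ :=
    digits (hd r 0) (hd r 1) (hd r 2) (hd r 3) (hd r 4) (hd r 5) (hd r 6) (hd r 7) (y := encR r) rfl
  obtain ⟨b0, b1, b2, b3, b4, b5, b6, b7⟩ :=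
    digits (hd s 0) (hd s 1) (hd s 2) (hd s 3) (hd s 4) (hd s 5) (hd s 6) (hd s 7) (y := encR s) rfl
  rw [h] at a0 a1 a2 a3 a4 a5 a6 a7
  have e0 := a0.symm.trans b0; have e1 := a1.symm.trans b1; have e2 := a2.symm.trans b2
  have e3 := a3.symm.trans b3; have e4 := a4.symm.trans b4; have e5 := a5.symm.trans b5
  have e6 := a6.symm.trans b6; have e7 := a7.symm.trans b7
  simp [rowDigits] at e0 e1 e2 e3 e4 e5 e6 e7
  funext j
  fin_cases j
  · exact K9.mk.injEq .. ▸ ⟨ZMod.val_injective 3 e0, ZMod.val_injective 3 e4⟩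
  · exact K9.mk.injEq .. ▸ ⟨ZMod.val_injective 3 e1, ZMod.val_injective 3 e5⟩
  · exact K9.mk.injEq .. ▸ ⟨ZMod.val_injective 3 e2, ZMod.val_injective 3 e6⟩
  · exact K9.mk.injEq .. ▸ ⟨ZMod.val_injective 3 e3, ZMod.val_injective 3 e7⟩

theorem codeK_injective : Function.Injective codeK := by
  intro A B h
  simp only [codeK, List.cons.injEq, and_true] at h
  funext i
  fin_cases i
  exacts [encR_injective h.1, encR_injective h.2.1, encR_injective h.2.2.1, encR_injective h.2.2.2]

/-- One number for a code. -/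
def key : List ℕ → ℕ
  | [] => 0
  | a :: l => a + 281474976710656 * key l

/-- The rows of one number. -/
def unk (k : ℕ) : List ℕ :=
  [k % 281474976710656, k / 281474976710656 % 281474976710656,
    k / 281474976710656 ^ 2 % 281474976710656, k / 281474976710656 ^ 3 % 281474976710656]

theorem unk_key (A : Mk) : unk (key (codeK A)) = codeK A := by
  have h0 := encR_lt (A 0); have h1 := encR_lt (A 1); have h2 := encR_lt (A 2); have h3 := encR_lt (A 3)
  simp only [codeK, key, unk]
  generalize encR (A 0) = x0 at h0 ⊢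
  generalize encR (A 1) = x1 at h1 ⊢
  generalize encR (A 2) = x2 at h2 ⊢
  generalize encR (A 3) = x3 at h3 ⊢
  simp only [List.cons.injEq, and_true]
  norm_num
  refine ⟨?_, ?_, ?_, ?_⟩ <;> omega

/-- The least key of the four multiples by powers of the square root of `-1`. -/
def mkey (c : List ℕ) : ℕ :=
  min (min (key c) (key (sI c))) (min (key (sI (sI c))) (key (sI (sI (sI c)))))

/-- The identity code. -/
def idC : List ℕ := [1, 64, 4096, 262144]

theorem codeK_one : codeK kone = idC := by decide +kernel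

theorem sI_four (A : Mk) : sI (sI (sI (sI (codeK A)))) = codeK A := by
  simp only [sI_codeK]
  refine congrArg codeK (funext fun i => funext fun j => ?_)
  have : ∀ x : K9, K9.mul K9.I (K9.mul K9.I (K9.mul K9.I (K9.mul K9.I x))) = x := by decide
  exact this _

/-- The code of a word in the nine generators. -/
def wC : List ℕ → List ℕ
  | [] => idC
  | r :: w => mmul (rootsC.getD r idC) (wC w)

/-- The letters are generators. -/
def wOk (w : List ℕ) : Bool := w.all fun r => Nat.blt r 9

/-- The product of a word in a list of words. -/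
def gC (gl : List (List ℕ)) : List ℕ → List ℕ
  | [] => idC
  | i :: w => mmul (wC (gl.getD i [])) (gC gl w)

/-- An entry of a packed table. -/
def look (T : List ℕ) (w e : ℕ) : ℕ := (T.getD (e / 64) 0 >>> (w * (e % 64))) % 2 ^ w

end Cfsg.Agent.MultU43
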