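import Cfsg.Agent.Lib.MultU43.CoverCheck

/-! Kernel checks for the cover of `PSU₄(3)`, in parts. -/

set_option autoImplicit false
set_option maxRecDepth 20000
set_option Elab.async false

namespace Cfsg.Agent.MultU43

theorem tor_ok : torOk = true := by decide +kernel

theorem gen_ok : genOk = true := by decide +kernel

theorem comOk_tabA : comOk tabA = true := by decide +kernel

theorem nfOk_tabA : nfOk tabA = true := by decide +kernel

theorem sigOk_tabA : sigOk tabA = true := by decide +kernel

instance : Good tabA := ⟨comOk_tabA, nfOk_tabA, sigOk_tabA⟩

theorem comOk_tabB : comOk tabB = true := by decide +kernel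

theorem nfOk_tabB : nfOk tabB = true := by decide +kernel

theorem sigOk_tabB : sigOk tabB = true := by decide +kernel

instance : Good tabB := ⟨comOk_tabB, nfOk_tabB, sigOk_tabB⟩

theorem formStep0_0 : part (formStep 0) 243 0 = true := by decide +kernel
theorem formStep0_1 : part (formStep 0) 243 1 = true := by decide +kernel
theorem formStep0_2 : part (formStep 0) 243 2 = true := by decide +kernel

theorem formStep0 : ∀ e < 729, (formStep 0) e = true :=
  of_parts (n := 243) (m := 3) (by norm_num) fun k hk => by
    interval_cases k
    exact formStep0_0
    exact formStep0_1
    exact formStep0_2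

theorem formStep1_0 : part (formStep 1) 243 0 = true := by decide +kernel
theorem formStep1_1 : part (formStep 1) 243 1 = true := by decide +kernel
theorem formStep1_2 : part (formStep 1) 243 2 = true := by decide +kernel

theorem formStep1 : ∀ e < 729, (formStep 1) e = true :=
  of_parts (n := 243) (m := 3) (by norm_num) fun k hk => by
    interval_cases k
    exact formStep1_0
    exact formStep1_1
    exact formStep1_2

theorem formStep2_0 : part (formStep 2) 243 0 = true := by decide +kernel
theorem formStep2_1 : part (formStep 2) 243 1 = true := by decide +kernel
theorem formStep2_2 : part (formStep 2) 243 2 = true := by decide +kernel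

theorem formStep2 : ∀ e < 729, (formStep 2) e = true :=
  of_parts (n := 243) (m := 3) (by norm_num) fun k hk => by
    interval_cases k
    exact formStep2_0
    exact formStep2_1
    exact formStep2_2

theorem formStep3_0 : part (formStep 3) 243 0 = true := by decide +kernel
theorem formStep3_1 : part (formStep 3) 243 1 = true := by decide +kernel
theorem formStep3_2 : part (formStep 3) 243 2 = true := by decide +kernel

theorem formStep3 : ∀ e < 729, (formStep 3) e = true :=
  of_parts (n := 243) (m := 3) (by norm_num) fun k hk => by
    interval_cases k
    exact formStep3_0
    exact formStep3_1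
    exact formStep3_2

theorem formStep4_0 : part (formStep 4) 243 0 = true := by decide +kernel
theorem formStep4_1 : part (formStep 4) 243 1 = true := by decide +kernel
theorem formStep4_2 : part (formStep 4) 243 2 = true := by decide +kernel

theorem formStep4 : ∀ e < 729, (formStep 4) e = true :=
  of_parts (n := 243) (m := 3) (by norm_num) fun k hk => by
    interval_cases k
    exact formStep4_0
    exact formStep4_1
    exact formStep4_2

theorem formStep5_0 : part (formStep 5) 243 0 = true := by decide +kernel
theorem formStep5_1 : part (formStep 5) 243 1 = true := by decide +kernel
theorem formStep5_2 : part (formStep 5) 243 2 = true := by decide +kernel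

theorem formStep5 : ∀ e < 729, (formStep 5) e = true :=
  of_parts (n := 243) (m := 3) (by norm_num) fun k hk => by
    interval_cases k
    exact formStep5_0
    exact formStep5_1
    exact formStep5_2

theorem repStep_ok_0 : part (repStep) 140 0 = true := by decide +kernel
theorem repStep_ok_1 : part (repStep) 140 1 = true := by decide +kernel
theorem repStep_ok_2 : part (repStep) 140 2 = true := by decide +kernel
theorem repStep_ok_3 : part (repStep) 140 3 = true := by decide +kernel
theorem repStep_ok_4 : part (repStep) 140 4 = true := by decide +kernel
theorem repStep_ok_5 : part (repStep) 140 5 = true := by decide +kernel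
theorem repStep_ok_6 : part (repStep) 140 6 = true := by decide +kernel
theorem repStep_ok_7 : part (repStep) 140 7 = true := by decide +kernel

theorem repStep_ok : ∀ e < 1120, (repStep) e = true :=
  of_parts (n := 140) (m := 8) (by norm_num) fun k hk => by
    interval_cases k
    exact repStep_ok_0
    exact repStep_ok_1
    exact repStep_ok_2
    exact repStep_ok_3
    exact repStep_ok_4
    exact repStep_ok_5
    exact repStep_ok_6
    exact repStep_ok_7

theorem actStep0_0 : part (actStep 0) 140 0 = true := by decide +kernel
theorem actStep0_1 : part (actStep 0) 140 1 = true := by decide +kernel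
theorem actStep0_2 : part (actStep 0) 140 2 = true := by decide +kernel
theorem actStep0_3 : part (actStep 0) 140 3 = true := by decide +kernel
theorem actStep0_4 : part (actStep 0) 140 4 = true := by decide +kernel
theorem actStep0_5 : part (actStep 0) 140 5 = true := by decide +kernel
theorem actStep0_6 : part (actStep 0) 140 6 = true := by decide +kernel
theorem actStep0_7 : part (actStep 0) 140 7 = true := by decide +kernel

theorem actStep0 : ∀ e < 1120, (actStep 0) e = true :=
  of_parts (n := 140) (m := 8) (by norm_num) fun k hk => by
    interval_cases k
    exact actStep0_0
    exact actStep0_1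
    exact actStep0_2
    exact actStep0_3
    exact actStep0_4
    exact actStep0_5
    exact actStep0_6
    exact actStep0_7

theorem actStep1_0 : part (actStep 1) 140 0 = true := by decide +kernel
theorem actStep1_1 : part (actStep 1) 140 1 = true := by decide +kernel
theorem actStep1_2 : part (actStep 1) 140 2 = true := by decide +kernel
theorem actStep1_3 : part (actStep 1) 140 3 = true := by decide +kernel
theorem actStep1_4 : part (actStep 1) 140 4 = true := by decide +kernel
theorem actStep1_5 : part (actStep 1) 140 5 = true := by decide +kernel
theorem actStep1_6 : part (actStep 1) 140 6 = true := by decide +kernel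
theorem actStep1_7 : part (actStep 1) 140 7 = true := by decide +kernel

theorem actStep1 : ∀ e < 1120, (actStep 1) e = true :=
  of_parts (n := 140) (m := 8) (by norm_num) fun k hk => by
    interval_cases k
    exact actStep1_0
    exact actStep1_1
    exact actStep1_2
    exact actStep1_3
    exact actStep1_4
    exact actStep1_5
    exact actStep1_6
    exact actStep1_7

theorem actStep2_0 : part (actStep 2) 140 0 = true := by decide +kernel
theorem actStep2_1 : part (actStep 2) 140 1 = true := by decide +kernel
theorem actStep2_2 : part (actStep 2) 140 2 = true := by decide +kernel
theorem actStep2_3 : part (actStep 2) 140 3 = true := by decide +kernel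
theorem actStep2_4 : part (actStep 2) 140 4 = true := by decide +kernel
theorem actStep2_5 : part (actStep 2) 140 5 = true := by decide +kernel
theorem actStep2_6 : part (actStep 2) 140 6 = true := by decide +kernel
theorem actStep2_7 : part (actStep 2) 140 7 = true := by decide +kernel

theorem actStep2 : ∀ e < 1120, (actStep 2) e = true :=
  of_parts (n := 140) (m := 8) (by norm_num) fun k hk => by
    interval_cases k
    exact actStep2_0
    exact actStep2_1
    exact actStep2_2
    exact actStep2_3
    exact actStep2_4
    exact actStep2_5
    exact actStep2_6
    exact actStep2_7

theorem actStep3_0 : part (actStep 3) 140 0 = true := by decide +kernel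
theorem actStep3_1 : part (actStep 3) 140 1 = true := by decide +kernel
theorem actStep3_2 : part (actStep 3) 140 2 = true := by decide +kernel
theorem actStep3_3 : part (actStep 3) 140 3 = true := by decide +kernel
theorem actStep3_4 : part (actStep 3) 140 4 = true := by decide +kernel
theorem actStep3_5 : part (actStep 3) 140 5 = true := by decide +kernel
theorem actStep3_6 : part (actStep 3) 140 6 = true := by decide +kernel
theorem actStep3_7 : part (actStep 3) 140 7 = true := by decide +kernel

theorem actStep3 : ∀ e < 1120, (actStep 3) e = true :=
  of_parts (n := 140) (m := 8) (by norm_num) fun k hk => by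
    interval_cases k
    exact actStep3_0
    exact actStep3_1
    exact actStep3_2
    exact actStep3_3
    exact actStep3_4
    exact actStep3_5
    exact actStep3_6
    exact actStep3_7

theorem actStep4_0 : part (actStep 4) 140 0 = true := by decide +kernel
theorem actStep4_1 : part (actStep 4) 140 1 = true := by decide +kernel
theorem actStep4_2 : part (actStep 4) 140 2 = true := by decide +kernel
theorem actStep4_3 : part (actStep 4) 140 3 = true := by decide +kernel
theorem actStep4_4 : part (actStep 4) 140 4 = true := by decide +kernel
theorem actStep4_5 : part (actStep 4) 140 5 = true := by decide +kernel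
theorem actStep4_6 : part (actStep 4) 140 6 = true := by decide +kernel
theorem actStep4_7 : part (actStep 4) 140 7 = true := by decide +kernel

theorem actStep4 : ∀ e < 1120, (actStep 4) e = true :=
  of_parts (n := 140) (m := 8) (by norm_num) fun k hk => by
    interval_cases k
    exact actStep4_0
    exact actStep4_1
    exact actStep4_2
    exact actStep4_3
    exact actStep4_4
    exact actStep4_5
    exact actStep4_6
    exact actStep4_7

theorem actStep5_0 : part (actStep 5) 140 0 = true := by decide +kernel
theorem actStep5_1 : part (actStep 5) 140 1 = true := by decide +kernel
theorem actStep5_2 : part (actStep 5) 140 2 = true := by decide +kernel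
theorem actStep5_3 : part (actStep 5) 140 3 = true := by decide +kernel
theorem actStep5_4 : part (actStep 5) 140 4 = true := by decide +kernel
theorem actStep5_5 : part (actStep 5) 140 5 = true := by decide +kernel
theorem actStep5_6 : part (actStep 5) 140 6 = true := by decide +kernel
theorem actStep5_7 : part (actStep 5) 140 7 = true := by decide +kernel

theorem actStep5 : ∀ e < 1120, (actStep 5) e = true :=
  of_parts (n := 140) (m := 8) (by norm_num) fun k hk => by
    interval_cases k
    exact actStep5_0
    exact actStep5_1
    exact actStep5_2
    exact actStep5_3
    exact actStep5_4
    exact actStep5_5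
    exact actStep5_6
    exact actStep5_7

theorem actStep6_0 : part (actStep 6) 140 0 = true := by decide +kernel
theorem actStep6_1 : part (actStep 6) 140 1 = true := by decide +kernel
theorem actStep6_2 : part (actStep 6) 140 2 = true := by decide +kernel
theorem actStep6_3 : part (actStep 6) 140 3 = true := by decide +kernel
theorem actStep6_4 : part (actStep 6) 140 4 = true := by decide +kernel
theorem actStep6_5 : part (actStep 6) 140 5 = true := by decide +kernel
theorem actStep6_6 : part (actStep 6) 140 6 = true := by decide +kernel
theorem actStep6_7 : part (actStep 6) 140 7 = true := by decide +kernel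

theorem actStep6 : ∀ e < 1120, (actStep 6) e = true :=
  of_parts (n := 140) (m := 8) (by norm_num) fun k hk => by
    interval_cases k
    exact actStep6_0
    exact actStep6_1
    exact actStep6_2
    exact actStep6_3
    exact actStep6_4
    exact actStep6_5
    exact actStep6_6
    exact actStep6_7

theorem actStep7_0 : part (actStep 7) 140 0 = true := by decide +kernel
theorem actStep7_1 : part (actStep 7) 140 1 = true := by decide +kernel
theorem actStep7_2 : part (actStep 7) 140 2 = true := by decide +kernel
theorem actStep7_3 : part (actStep 7) 140 3 = true := by decide +kernel
theorem actStep7_4 : part (actStep 7) 140 4 = true := by decide +kernel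
theorem actStep7_5 : part (actStep 7) 140 5 = true := by decide +kernel
theorem actStep7_6 : part (actStep 7) 140 6 = true := by decide +kernel
theorem actStep7_7 : part (actStep 7) 140 7 = true := by decide +kernel

theorem actStep7 : ∀ e < 1120, (actStep 7) e = true :=
  of_parts (n := 140) (m := 8) (by norm_num) fun k hk => by
    interval_cases k
    exact actStep7_0
    exact actStep7_1
    exact actStep7_2
    exact actStep7_3
    exact actStep7_4
    exact actStep7_5
    exact actStep7_6
    exact actStep7_7

theorem formStep_ok {i e : ℕ} (hi : i < 6) (he : e < 729) : formStep i e = true := by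
  interval_cases i
  exact formStep0 e he
  exact formStep1 e he
  exact formStep2 e he
  exact formStep3 e he
  exact formStep4 e he
  exact formStep5 e he

theorem actStep_ok {a i : ℕ} (ha : a < 8) (hi : i < 1120) : actStep a i = true := by
  interval_cases a
  exact actStep0 i hi
  exact actStep1 i hi
  exact actStep2 i hi
  exact actStep3 i hi
  exact actStep4 i hi
  exact actStep5 i hi
  exact actStep6 i hi
  exact actStep7 i hi

theorem pair_sums : pairSum tabA 0 5 = 1 ∧ pairSum tabB 0 5 = 0 ∧ pairSum tabA 6 7 = 0 ∧
    pairSum tabB 6 7 = 2 := by
  decide +kernel

end Cfsg.Agent.MultU43
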