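import Cfsg.Agent.Lib.MultU43.Cover

/-!
The Schur multiplier of `PSU₄(3)` is `Z/4 × Z/3 × Z/3`: the fibre product of the special unitary
group and the two triple covers.
-/

set_option autoImplicit false
set_option maxRecDepth 20000

namespace Cfsg.Agent.MultU43

open Cfsg.Agent.StemCert
open scoped commutatorElement

universe u

variable {F : Type u} [Field F] [Fintype F] (ι : Iso F) (hF : Fintype.card F = 9)

/-- The projection of the special unitary group. -/
noncomputable def projS : S F →* P F := QuotientGroup.mk' _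

/-- The first triple cover. -/
abbrev EA : Type u := Cor.Ext (datum ι hF tabA)

/-- The second triple cover. -/
abbrev EB : Type u := Cor.Ext (datum ι hF tabB)

/-- The fibre product of the three covers. -/
noncomputable def fib [Finite (P F)] : Subgroup (S F × EA ι hF × EB ι hF) :=
  ((projS (F := F)).comp (MonoidHom.fst (S F) (EA ι hF × EB ι hF))).eqLocus
      ((Cor.proj (datum ι hF tabA)).comp
        ((MonoidHom.fst (EA ι hF) (EB ι hF)).comp (MonoidHom.snd (S F) (EA ι hF × EB ι hF)))) ⊓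
    ((projS (F := F)).comp (MonoidHom.fst (S F) (EA ι hF × EB ι hF))).eqLocus
      ((Cor.proj (datum ι hF tabB)).comp
        ((MonoidHom.snd (EA ι hF) (EB ι hF)).comp (MonoidHom.snd (S F) (EA ι hF × EB ι hF))))

/-- The map onto the simple group. -/
noncomputable def projF [Finite (P F)] : fib ι hF →* P F :=
  ((projS (F := F)).comp (MonoidHom.fst (S F) (EA ι hF × EB ι hF))).comp (fib ι hF).subtype

/-- The element of the kernel with given coordinates. -/
noncomputable def kerEl [Finite (P F)] (k : ZMod 4) (u v : ZMod 3) : (projF ι hF).ker :=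
  have h : projS (zS ι hF ^ k.val) = 1 :=
    (QuotientGroup.eq_one_iff _).2 (pow_mem (zS_central ι hF) _)
  ⟨⟨(zS ι hF ^ k.val, ⟨1, u⟩, ⟨1, v⟩), h, h⟩, h⟩

theorem kerEl_mul [Finite (P F)] (k l : ZMod 4) (u v u' v' : ZMod 3) :
    kerEl ι hF k u v * kerEl ι hF l u' v' = kerEl ι hF (k + l) (u + u') (v + v') := by
  refine Subtype.ext (Subtype.ext (Prod.ext ?_ (Prod.ext ?_ ?_)))
  · show zS ι hF ^ k.val * zS ι hF ^ l.val = zS ι hF ^ (k + l).val
    rw [← pow_add, pow_eq_pow_iff_modEq, orderOf_zS, ZMod.val_add]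
    exact (Nat.mod_modEq _ _).symm
  · refine Cor.Ext.ext (mul_one 1) ?_
    show u + u' + Cor.cor (datum ι hF tabA) 1 1 = u + u'
    rw [Cor.cor_one_left, add_zero]
  · refine Cor.Ext.ext (mul_one 1) ?_
    show v + v' + Cor.cor (datum ι hF tabB) 1 1 = v + v'
    rw [Cor.cor_one_left, add_zero]

/-- The kernel, by coordinates. -/
noncomputable def kerHom [Finite (P F)] :
    Multiplicative (ZMod 4 × ZMod 3 × ZMod 3) →* (projF ι hF).ker :=
  MonoidHom.mk' (fun t => kerEl ι hF t.toAdd.1 t.toAdd.2.1 t.toAdd.2.2)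
    fun _ _ => (kerEl_mul ι hF _ _ _ _ _ _).symm

theorem kerHom_bijective [Finite (P F)] : Function.Bijective (kerHom ι hF) := by
  constructor
  · rintro ⟨k, u, v⟩ ⟨k', u', v'⟩ h
    have h' := congrArg (fun x : (projF ι hF).ker => (x : fib ι hF).1) h
    have h1 : zS ι hF ^ k.val = zS ι hF ^ k'.val := congrArg Prod.fst h'
    have h2 : u = u' := congrArg (fun x => x.2.1.cen) h'
    have h3 : v = v' := congrArg (fun x => x.2.2.cen) h'
    rw [pow_eq_pow_iff_modEq, orderOf_zS] at h1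
    have hk : k = k' := ZMod.val_injective 4 (Nat.ModEq.eq_of_lt_of_lt h1 k.val_lt k'.val_lt)
    exact congrArg Multiplicative.ofAdd (Prod.ext hk (Prod.ext h2 h3))
  · rintro ⟨⟨⟨s, x, y⟩, ha, hb⟩, hs⟩
    have hs' : projS s = 1 := hs
    have hc : s ∈ Subgroup.center (S F) := (QuotientGroup.eq_one_iff _).1 hs'
    rw [center_eq ι hF] at hc
    obtain ⟨n, hn⟩ := mem_powers_iff_mem_zpowers.2 hc
    have hx : x.img = 1 := (show projS s = x.img from ha) ▸ hs'
    have hy : y.img = 1 := (show projS s = y.img from hb) ▸ hs'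
    refine ⟨Multiplicative.ofAdd ((n : ZMod 4), x.cen, y.cen),
      Subtype.ext (Subtype.ext (Prod.ext ?_ (Prod.ext (Cor.Ext.ext hx.symm rfl)
        (Cor.Ext.ext hy.symm rfl))))⟩
    show zS ι hF ^ (n : ZMod 4).val = s
    rw [← hn, ZMod.val_natCast]
    show zS ι hF ^ (n % 4) = zS ι hF ^ n
    rw [pow_eq_pow_iff_modEq, orderOf_zS]
    exact Nat.mod_modEq _ _

theorem ext_comm [Finite (P F)] (D : Cor.Datum (P F) 3) {a b : P F} (hab : a * b = b * a) :
    ⁅(⟨a, 0⟩ : Cor.Ext D), (⟨b, 0⟩ : Cor.Ext D)⁆ = ⟨1, Cor.cor D a b - Cor.cor D b a⟩ := by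
  have e : (⟨a, 0⟩ : Cor.Ext D) * ⟨b, 0⟩ =
      ⟨1, Cor.cor D a b - Cor.cor D b a⟩ * (⟨b, 0⟩ * ⟨a, 0⟩) := by
    refine Cor.Ext.ext ?_ ?_
    · show a * b = 1 * (b * a)
      rw [one_mul, hab]
    · rw [Cor.cen_mul, Cor.cen_mul, Cor.cen_mul]
      show (0 : ZMod 3) + 0 + Cor.cor D a b =
        Cor.cor D a b - Cor.cor D b a + (0 + 0 + Cor.cor D b a) + Cor.cor D 1 (b * a)
      rw [Cor.cor_one_left]
      abel
  rw [commutatorElement_def, e]
  group

/-- The coordinates of the commutator of lifts of two commuting elements. -/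
theorem exists_comm [Finite (P F)] (v w : List ℕ)
    (hab : wP ι hF v * wP ι hF w = wP ι hF w * wP ι hF v) :
    ∃ k : ZMod 4, zS ι hF ^ k.val = ⁅wS ι hF v, wS ι hF w⁆ ∧
      ((kerEl ι hF k
        (Cor.cor (datum ι hF tabA) (wP ι hF v) (wP ι hF w) -
          Cor.cor (datum ι hF tabA) (wP ι hF w) (wP ι hF v))
        (Cor.cor (datum ι hF tabB) (wP ι hF v) (wP ι hF w) -
          Cor.cor (datum ι hF tabB) (wP ι hF w) (wP ι hF v)) : (projF ι hF).ker) : fib ι hF) ∈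
        commutator (fib ι hF) := by
  have hc : ⁅wS ι hF v, wS ι hF w⁆ ∈ Subgroup.center (S F) := by
    refine (QuotientGroup.eq_one_iff _).1 ?_
    show projS ⁅wS ι hF v, wS ι hF w⁆ = 1
    rw [map_commutatorElement]
    exact commutatorElement_eq_one_iff_mul_comm.2 hab
  rw [center_eq ι hF] at hc
  obtain ⟨n, hn⟩ := mem_powers_iff_mem_zpowers.2 hc
  have hk : zS ι hF ^ (n : ZMod 4).val = ⁅wS ι hF v, wS ι hF w⁆ := by
    rw [← hn, ZMod.val_natCast]
    show zS ι hF ^ (n % 4) = zS ι hF ^ n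
    rw [pow_eq_pow_iff_modEq, orderOf_zS]
    exact Nat.mod_modEq _ _
  refine ⟨(n : ZMod 4), hk, ?_⟩
  let A : fib ι hF := ⟨(wS ι hF v, ⟨wP ι hF v, 0⟩, ⟨wP ι hF v, 0⟩), rfl, rfl⟩
  let B : fib ι hF := ⟨(wS ι hF w, ⟨wP ι hF w, 0⟩, ⟨wP ι hF w, 0⟩), rfl, rfl⟩
  have e : ((kerEl ι hF (n : ZMod 4)
      (Cor.cor (datum ι hF tabA) (wP ι hF v) (wP ι hF w) -
        Cor.cor (datum ι hF tabA) (wP ι hF w) (wP ι hF v))
      (Cor.cor (datum ι hF tabB) (wP ι hF v) (wP ι hF w) -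
        Cor.cor (datum ι hF tabB) (wP ι hF w) (wP ι hF v)) : (projF ι hF).ker) : fib ι hF) =
      ⁅A, B⁆ :=
    Subtype.ext (Prod.ext hk (Prod.ext (ext_comm _ hab).symm (ext_comm _ hab).symm))
  rw [e]
  exact Subgroup.commutator_mem_commutator (Subgroup.mem_top _) (Subgroup.mem_top _)

theorem ker_le_commutator [Finite (P F)] : (projF ι hF).ker ≤ commutator (fib ι hF) := by
  let K : Subgroup (Multiplicative (ZMod 4 × ZMod 3 × ZMod 3)) :=
    (commutator (fib ι hF)).comap ((projF ι hF).ker.subtype.comp (kerHom ι hF))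
  have hg := gen_ok
  simp only [genOk, Bool.and_eq_true, beq_iff_eq] at hg
  obtain ⟨⟨⟨⟨⟨⟨⟨-, h1⟩, h2⟩, -⟩, -⟩, -⟩, -⟩, h0⟩ := hg
  have hz : wS ι hF wordA * wS ι hF wordB = zS ι hF * (wS ι hF wordB * wS ι hF wordA) := by
    refine mat_injective (code_injective ι ?_)
    rw [code_zS_mul, mat_mul, code_mul, mat_mul, code_mul, wS_code, wS_code]
    exact h0
  have hab0 : wP ι hF wordA * wP ι hF wordB = wP ι hF wordB * wP ι hF wordA := by
    have h := congrArg (projS (F := F)) hz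
    rw [map_mul, map_mul, map_mul,
      show projS (zS ι hF) = 1 from (QuotientGroup.eq_one_iff _).2 (zS_central ι hF), one_mul] at h
    exact h
  have hab : ∀ a b, Nat.beq (mkey (mmul (wC (actW.getD a [])) (wC (actW.getD b []))))
      (mkey (mmul (wC (actW.getD b [])) (wC (actW.getD a [])))) = true →
        act ι hF a * act ι hF b = act ι hF b * act ι hF a := fun a b h => by
    refine pkey_injective ι hF ?_
    rw [act, act, pkey_mul ι hF _ _ (rep_wP ι hF _) (rep_wP ι hF _),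
      pkey_mul ι hF _ _ (rep_wP ι hF _) (rep_wP ι hF _)]
    exact Nat.eq_of_beq_eq_true h
  obtain ⟨p1, p2, p3, p4⟩ := pair_sums
  obtain ⟨k, hk, hm⟩ := exists_comm ι hF wordA wordB hab0
  rw [show k = 1 from by
    have hc : ⁅wS ι hF wordA, wS ι hF wordB⁆ = zS ι hF := by
      rw [commutatorElement_def, hz]; group
    rw [hc] at hk
    conv_rhs at hk => rw [← pow_one (zS ι hF)]
    rw [pow_eq_pow_iff_modEq, orderOf_zS] at hk
    exact ZMod.val_injective 4 (Nat.ModEq.eq_of_lt_of_lt hk k.val_lt (by decide))] at hm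
  obtain ⟨k1, -, hm1⟩ := exists_comm ι hF _ _ (hab 0 5 h1)
  obtain ⟨k2, -, hm2⟩ := exists_comm ι hF _ _ (hab 6 7 h2)
  have eA1 := cor_sub ι hF tabA (a := 0) (b := 5) (by norm_num) (by norm_num)
  have eB1 := cor_sub ι hF tabB (a := 0) (b := 5) (by norm_num) (by norm_num)
  have eA2 := cor_sub ι hF tabA (a := 6) (b := 7) (by norm_num) (by norm_num)
  have eB2 := cor_sub ι hF tabB (a := 6) (b := 7) (by norm_num) (by norm_num)
  simp only [act] at eA1 eB1 eA2 eB2
  rw [eA1, eB1, p1, p2] at hm1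
  rw [eA2, eB2, p3, p4] at hm2
  generalize Cor.cor (datum ι hF tabA) (wP ι hF wordA) (wP ι hF wordB) -
    Cor.cor (datum ι hF tabA) (wP ι hF wordB) (wP ι hF wordA) = u0 at hm
  generalize Cor.cor (datum ι hF tabB) (wP ι hF wordA) (wP ι hF wordB) -
    Cor.cor (datum ι hF tabB) (wP ι hF wordB) (wP ι hF wordA) = v0 at hm
  have m0 : Multiplicative.ofAdd ((1 : ZMod 4), u0, v0) ∈ K := hm
  have m1 : Multiplicative.ofAdd (k1, (1 : ZMod 3), (0 : ZMod 3)) ∈ K := hm1
  have m2 : Multiplicative.ofAdd (k2, (0 : ZMod 3), (2 : ZMod 3)) ∈ K := hm2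
  have c0 : ∀ u v : ZMod 3, 9 • ((1 : ZMod 4), u, v) = (1, 0, 0) := by decide
  have c1 : ∀ k : ZMod 4, 4 • (k, (1 : ZMod 3), (0 : ZMod 3)) = (0, 1, 0) := by decide
  have c2 : ∀ k : ZMod 4, 8 • (k, (0 : ZMod 3), (2 : ZMod 3)) = (0, 0, 1) := by decide
  have g0 := pow_mem m0 9
  have g1 := pow_mem m1 4
  have g2 := pow_mem m2 8
  rw [← ofAdd_nsmul, c0] at g0
  rw [← ofAdd_nsmul, c1] at g1
  rw [← ofAdd_nsmul, c2] at g2
  intro x hx
  obtain ⟨t, ht⟩ := (kerHom_bijective ι hF).2 ⟨x, hx⟩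
  have ct : ∀ s : ZMod 4 × ZMod 3 × ZMod 3,
      s.1.val • ((1 : ZMod 4), (0 : ZMod 3), (0 : ZMod 3)) + s.2.1.val • ((0 : ZMod 4), (1 : ZMod 3),
        (0 : ZMod 3)) + s.2.2.val • ((0 : ZMod 4), (0 : ZMod 3), (1 : ZMod 3)) = s := by decide
  have ht' : t ∈ K := by
    rw [← ofAdd_toAdd t, ← ct t.toAdd, ofAdd_add, ofAdd_add, ofAdd_nsmul, ofAdd_nsmul, ofAdd_nsmul]
    exact mul_mem (mul_mem (pow_mem g0 _) (pow_mem g1 _)) (pow_mem g2 _)
  have hx' : ((kerHom ι hF t : (projF ι hF).ker) : fib ι hF) = x := congrArg Subtype.val ht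
  exact hx' ▸ ht'

include ι hF in
/-- The cover. -/
theorem exists_cover :
    ∃ (Γ : Type u) (_ : Group Γ) (_ : Finite Γ) (σ : Γ →* P F), Cfsg.IsStemExtension σ ∧
      Nonempty (σ.ker ≃* Multiplicative (ZMod 4 × ZMod 3 × ZMod 3)) := by
  haveI := finite_P hF
  refine ⟨fib ι hF, inferInstance, inferInstance, projF ι hF, ⟨?_, ?_, ker_le_commutator ι hF⟩,
    ⟨(MulEquiv.ofBijective _ (kerHom_bijective ι hF)).symm⟩⟩
  · intro g
    obtain ⟨x, rfl⟩ := QuotientGroup.mk_surjective g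
    exact ⟨⟨(x, ⟨QuotientGroup.mk x, 0⟩, ⟨QuotientGroup.mk x, 0⟩), rfl, rfl⟩, rfl⟩
  · rintro ⟨⟨s, x, y⟩, ha, hb⟩ hs
    have hs' : projS s = 1 := hs
    rw [Subgroup.mem_center_iff]
    intro g
    have c1 := Subgroup.mem_center_iff.1 ((QuotientGroup.eq_one_iff _).1 hs') g.1.1
    have c2 := Subgroup.mem_center_iff.1 (Cor.mem_center_of_img (datum ι hF tabA) (x := x)
      ((show projS s = x.img from ha) ▸ hs')) g.1.2.1
    have c3 := Subgroup.mem_center_iff.1 (Cor.mem_center_of_img (datum ι hF tabB) (x := y)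
      ((show projS s = y.img from hb) ▸ hs')) g.1.2.2
    exact Subtype.ext (Prod.ext c1 (Prod.ext c2 c3))

include ι hF in
/-- The multiplier. -/
theorem hasSchurMultiplier :
    Cfsg.HasSchurMultiplier (P F) (Multiplicative (ZMod 4 × ZMod 3 × ZMod 3)) :=
  ⟨exists_cover ι hF, fun Γ _ _ σ hσ => exists_onto ι hF σ hσ.1 hσ.2.1 hσ.2.2⟩

end Cfsg.Agent.MultU43
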